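import Mathlib
import Cfsg.Agent.Lib.CharP.Zsigmondy

/-!
A finite additive subgroup of a ring of characteristic two which contains `1`, is closed under
`(a, b) ↦ a * b * a` and consists of units apart from `0`, is commutative
(finite Jordan division algebras of characteristic two, elementary proof).
-/

set_option autoImplicit false
set_option linter.style.longLine false

namespace Cfsg.Agent.TISpread

open scoped Pointwise

variable {R : Type*} [Ring R]

/-- A finite "division set" of a ring of characteristic two. -/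
structure JD (B : AddSubgroup R) : Prop where
  one_mem : (1 : R) ∈ B
  tri : ∀ a ∈ B, ∀ b ∈ B, a * b * a ∈ B
  unit : ∀ a ∈ B, a ≠ 0 → IsUnit a
  add_self : ∀ x : R, x + x = 0
  fin : Finite B

namespace JD

variable {B : AddSubgroup R} (hB : JD B)
include hB

theorem eq_of_add {x y : R} (h : x + y = 0) : x = y :=
  (eq_neg_of_add_eq_zero_left h).trans (eq_neg_of_add_eq_zero_left (hB.add_self y)).symm

theorem sq_mem {a : R} (ha : a ∈ B) : a * a ∈ B := by
  simpa using hB.tri a ha 1 hB.one_mem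

theorem pow_mem {a : R} (ha : a ∈ B) : ∀ n : ℕ, a ^ n ∈ B
  | 0 => by simpa using hB.one_mem
  | 1 => by simpa using ha
  | n + 2 => by
    have := hB.tri a ha _ (pow_mem ha n)
    rwa [← pow_succ' , ← pow_succ] at this

theorem dd_mem {a x : R} (ha : a ∈ B) (hx : x ∈ B) : a * x + x * a ∈ B := by
  have h := add_mem (add_mem (hB.tri (a + 1) (add_mem ha hB.one_mem) x hx) (hB.tri a ha x hx)) hx
  have e : (a + 1) * x * (a + 1) + a * x * a + x
      = a * x + x * a + ((a * x * a + a * x * a) + (x + x)) := by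
    simp only [add_mul, mul_add, one_mul, mul_one]; abel
  rwa [e, hB.add_self, hB.add_self, add_zero, add_zero] at h

theorem eq_zero_of_sq {a : R} (ha : a ∈ B) (h : a * a = 0) : a = 0 := by
  by_contra h0
  exact h0 ((hB.unit a ha h0).mul_right_eq_zero.1 h)

theorem one_add_sq (x : R) : (x + 1) * (x + 1) = x * x + 1 := by
  have e : (x + 1) * (x + 1) = x * x + 1 + (x + x) := by
    simp only [add_mul, mul_add, one_mul, mul_one]; abel
  rw [e, hB.add_self, add_zero]

theorem exists_odd_pow {a : R} (ha : a ∈ B) (h0 : a ≠ 0) : ∃ e : ℕ, a ^ (2 * e + 1) = 1 := by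
  haveI := hB.fin
  obtain ⟨i, j, hne, hij⟩ := Finite.exists_ne_map_eq_of_infinite (fun n : ℕ => (⟨a ^ n, hB.pow_mem ha n⟩ : B))
  have hij' : a ^ i = a ^ j := congrArg Subtype.val hij
  have key : ∃ n : ℕ, 0 < n ∧ a ^ n = 1 := by
    rcases lt_or_gt_of_ne hne with hlt | hlt
    · refine ⟨j - i, by omega, ?_⟩
      apply ((hB.unit a ha h0).pow i).mul_left_cancel
      rw [← pow_add, mul_one, Nat.add_sub_cancel' hlt.le, hij']
    · refine ⟨i - j, by omega, ?_⟩
      apply ((hB.unit a ha h0).pow j).mul_left_cancel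
      rw [← pow_add, mul_one, Nat.add_sub_cancel' hlt.le, hij']
  classical
  obtain ⟨hn0, hn1⟩ := Nat.find_spec key
  rcases Nat.even_or_odd (Nat.find key) with ⟨f, hf⟩ | ⟨f, hf⟩
  · exfalso
    have hf1 : a ^ f = 1 := by
      refine hB.eq_of_add (hB.eq_zero_of_sq (add_mem (hB.pow_mem ha f) hB.one_mem) ?_)
      rw [hB.one_add_sq, ← pow_add, ← hf, hn1, hB.add_self]
    exact Nat.find_min key (show f < Nat.find key by omega) ⟨by omega, hf1⟩
  · exact ⟨f, hf ▸ hn1⟩

theorem exists_root {a : R} (ha : a ∈ B) :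
    ∃ s ∈ B, s * s = a ∧ ∀ x : R, Commute x a → Commute x s := by
  by_cases h0 : a = 0
  · exact ⟨0, zero_mem B, by simp [h0], fun x _ => Commute.zero_right x⟩
  obtain ⟨e, he⟩ := hB.exists_odd_pow ha h0
  refine ⟨a ^ (e + 1), hB.pow_mem ha _, ?_, fun x hx => hx.pow_right _⟩
  rw [← pow_add, show e + 1 + (e + 1) = (2 * e + 1) + 1 by ring, pow_add, he, one_mul, pow_one]

theorem commute_of_sq {a x : R} (ha : a ∈ B) (hx : Commute x (a * a)) : Commute x a := by
  by_cases h0 : a = 0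
  · rw [h0]; exact Commute.zero_right x
  obtain ⟨e, he⟩ := hB.exists_odd_pow ha h0
  have : a = (a * a) ^ (e + 1) := by
    rw [← sq, ← pow_mul, show 2 * (e + 1) = (2 * e + 1) + 1 by ring, pow_add, he, one_mul, pow_one]
  rw [this]
  exact hx.pow_right _

theorem sq_inj {a b : R} (ha : a ∈ B) (hb : b ∈ B) (h : a * a = b * b) : a = b := by
  have hc : Commute a b := hB.commute_of_sq hb (by rw [← h]; exact (Commute.refl a).mul_right (Commute.refl a))
  refine hB.eq_of_add (hB.eq_zero_of_sq (add_mem ha hb) ?_)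
  have e : (a + b) * (a + b) = a * a + b * b + (a * b + b * a) := by
    simp only [add_mul, mul_add]; abel
  rw [e, hc.eq, h, hB.add_self, hB.add_self, add_zero]

theorem eq_one_of_sq {a : R} (ha : a ∈ B) (h : a * a = 1) : a = 1 :=
  hB.sq_inj ha hB.one_mem (by rw [h, one_mul])

theorem exists_inv {a : R} (ha : a ∈ B) (h0 : a ≠ 0) :
    ∃ b ∈ B, a * b = 1 ∧ b * a = 1 ∧ ∀ x : R, Commute x a → Commute x b := by
  obtain ⟨e, he⟩ := hB.exists_odd_pow ha h0
  exact ⟨a ^ (2 * e), hB.pow_mem ha _, by rw [← pow_succ', he], by rw [← pow_succ, he],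
    fun x hx => hx.pow_right _⟩

theorem inverse_mem {a : R} (ha : a ∈ B) : Ring.inverse a ∈ B := by
  by_cases h0 : a = 0
  · rw [h0, Ring.inverse_zero]; exact zero_mem B
  obtain ⟨b, hb, hab, hba, -⟩ := hB.exists_inv ha h0
  have : Ring.inverse a = b := by
    have := Ring.inverse_unit (⟨a, b, hab, hba⟩ : Rˣ)
    simpa using this
  rwa [this]

theorem inverse_inverse {a : R} (ha : a ∈ B) : Ring.inverse (Ring.inverse a) = a := by
  by_cases h0 : a = 0
  · simp [h0]
  obtain ⟨u, rfl⟩ := hB.unit a ha h0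
  simp

theorem mul_mem_of_commute {a b : R} (ha : a ∈ B) (hb : b ∈ B) (h : Commute a b) : a * b ∈ B := by
  obtain ⟨s, hs, hss, hsc⟩ := hB.exists_root hb
  have := hB.tri s hs a ha
  rwa [← (hsc a h).eq, mul_assoc, hss] at this

/-- `D_a D_a x = 0` implies `D_a x = 0`. -/
theorem dd_eq_zero {a x : R} (ha : a ∈ B) (h : a * (a * x + x * a) + (a * x + x * a) * a = 0) :
    a * x + x * a = 0 := by
  have h' : a * a * x + x * (a * a) = 0 := by
    have e : a * (a * x + x * a) + (a * x + x * a) * a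
        = a * a * x + x * (a * a) + (a * x * a + a * x * a) := by
      simp only [mul_add, add_mul, mul_assoc]; abel
    rwa [e, hB.add_self, add_zero] at h
  rw [(hB.commute_of_sq ha (hB.eq_of_add h').symm).eq, hB.add_self]

theorem commute_of_dd {a x : R} (h : a * x + x * a = 0) : Commute a x := hB.eq_of_add h

theorem central_of_idem {b : R} (hb : b ∈ B) (hc : ∀ x ∈ B, Commute (b * b + b) x) :
    ∀ x ∈ B, Commute b x := by
  intro x hx
  set m := b * x + x * b with hm
  have hmB : m ∈ B := hB.dd_mem hb hx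
  have h1 : b * m + m * b = m := by
    have e : b * m + m * b = (b * b + b) * x + x * (b * b + b) + m + ((b * x * b + b * x * b) +
        ((b * x + b * x) + (x * b + x * b))) - ((b * x + b * x) + (x * b + x * b)) -
        ((b * x + b * x) + (x * b + x * b)) := by
      rw [hm]; simp only [mul_add, add_mul, mul_assoc]; abel
    rw [e, (hc x hx).eq]; simp only [hB.add_self]; simp
  have h2 : m * b + b * m = 0 := hB.dd_eq_zero hmB (by
    rw [add_comm (m * b), h1, hB.add_self])
  exact hB.commute_of_dd (show m = 0 by rw [← h1, add_comm, h2])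

/-- A subset closed under the operations inherits the structure. -/
theorem sub {C : AddSubgroup R} (hle : C ≤ B) (h1 : (1 : R) ∈ C)
    (ht : ∀ a ∈ C, ∀ b ∈ C, a * b * a ∈ C) : JD C :=
  ⟨h1, ht, fun a ha => hB.unit a (hle ha), hB.add_self, by
    haveI := hB.fin
    exact Finite.of_injective (AddSubgroup.inclusion hle) (AddSubgroup.inclusion_injective hle)⟩

/-- The key step: an element of order two of the automorphism group, given by conjugation. -/
theorem comm_of_involution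
    (hIH : ∀ C : AddSubgroup R, JD C → C < B → ∀ a ∈ C, ∀ b ∈ C, Commute a b) (l : Rˣ)
    (hl : ∀ x ∈ B, (l : R) * x * (↑l⁻¹ : R) ∈ B)
    (hll : ∀ x ∈ B, (l : R) * ((l : R) * x * (↑l⁻¹ : R)) * (↑l⁻¹ : R) = x)
    (hne : ∃ x ∈ B, ¬ Commute (l : R) x) : ∀ a ∈ B, ∀ b ∈ B, Commute a b := by
  have hfix : ∀ x : R, (l : R) * x * (↑l⁻¹ : R) = x → Commute (l : R) x := fun x h => by
    have h' := congrArg (· * (l : R)) h
    show (l : R) * x = x * l
    simpa [mul_assoc] using h'
  have hfix' : ∀ x : R, Commute (l : R) x → (l : R) * x * (↑l⁻¹ : R) = x := fun x h => by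
    rw [h.eq, Units.mul_inv_cancel_right]
  let C : AddSubgroup R :=
    { carrier := {x | x ∈ B ∧ Commute (l : R) x}
      zero_mem' := ⟨zero_mem B, Commute.zero_right _⟩
      add_mem' := fun ha hb => ⟨add_mem ha.1 hb.1, ha.2.add_right hb.2⟩
      neg_mem' := fun ha => ⟨neg_mem ha.1, ha.2.neg_right⟩ }
  have hCJ : JD C := hB.sub (fun x hx => hx.1) ⟨hB.one_mem, Commute.one_right _⟩
    fun a ha b hb => ⟨hB.tri a ha.1 b hb.1, (ha.2.mul_right hb.2).mul_right ha.2⟩
  have hClt : C < B := lt_of_le_of_ne (fun x hx => hx.1) (fun h => by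
    obtain ⟨x, hx, hx'⟩ := hne
    exact hx' (h.ge hx).2)
  have hCc := hIH C hCJ hClt
  have hsum : ∀ x ∈ B, x + (l : R) * x * (↑l⁻¹ : R) ∈ C := fun x hx => by
    refine ⟨add_mem hx (hl x hx), hfix _ ?_⟩
    rw [mul_add, add_mul, hll x hx, add_comm]
  -- fixed elements are central
  have hcen : ∀ c ∈ C, ∀ x ∈ B, Commute c x := by
    intro c hc x hx
    set m := c * x + x * c with hm
    have hmB : m ∈ B := hB.dd_mem hc.1 hx
    have hc' : (l : R) * c * (↑l⁻¹ : R) = c := hfix' c hc.2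
    set y := x + (l : R) * x * (↑l⁻¹ : R) with hy
    have hlm : (l : R) * m * (↑l⁻¹ : R) =
        c * ((l : R) * x * (↑l⁻¹ : R)) + ((l : R) * x * (↑l⁻¹ : R)) * c := by
      conv_rhs => rw [← hc']
      rw [hm, mul_add, add_mul]
      simp [mul_assoc]
    have hcy : c * y + y * c = 0 := by
      rw [(hCc c hc y (hsum x hx)).eq, hB.add_self]
    have hlm' : (l : R) * m * (↑l⁻¹ : R) = m := by
      refine hB.eq_of_add ?_
      rw [hlm, hm]
      have e : c * ((l : R) * x * (↑l⁻¹ : R)) + ((l : R) * x * (↑l⁻¹ : R)) * c + (c * x + x * c)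
          = c * y + y * c := by rw [hy]; simp only [mul_add, add_mul]; abel
      rw [e, hcy]
    have hmC : m ∈ C := ⟨hmB, hfix _ hlm'⟩
    exact hB.commute_of_dd (hB.dd_eq_zero hc.1 (by rw [← hm, (hCc c hc m hmC).eq, hB.add_self]))
  obtain ⟨x0, hx0, hx0'⟩ := hne
  set c := x0 + (l : R) * x0 * (↑l⁻¹ : R) with hc
  have hcC : c ∈ C := hsum x0 hx0
  have hc0 : c ≠ 0 := fun h => hx0' (hfix _ (hB.eq_of_add h).symm)
  obtain ⟨c', hc'B, hcc', hc'c, hc'C⟩ := hB.exists_inv hcC.1 hc0
  have hc'mem : c' ∈ C := ⟨hc'B, hc'C _ hcC.2⟩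
  have key : ∀ y ∈ B, ∃ z w : R, y = z + w * x0 ∧ (∀ x ∈ B, Commute z x) ∧ (∀ x ∈ B, Commute w x) := by
    intro y hy
    set e := y + (l : R) * y * (↑l⁻¹ : R) with he
    have heC : e ∈ C := hsum y hy
    set w := e * c' with hw
    have hwB : w ∈ B := hB.mul_mem_of_commute heC.1 hc'B (hcen e heC c' hc'B)
    have hwC : w ∈ C := ⟨hwB, heC.2.mul_right hc'mem.2⟩
    have hwx : w * x0 ∈ B := hB.mul_mem_of_commute hwB hx0 (hcen w hwC x0 hx0)
    have hz : y + w * x0 ∈ C := by
      refine ⟨add_mem hy hwx, hfix _ (hB.eq_of_add ?_)⟩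
      have hlw : (l : R) * (w * x0) * (↑l⁻¹ : R) = w * ((l : R) * x0 * (↑l⁻¹ : R)) := by
        rw [← mul_assoc, hwC.2.eq, mul_assoc, mul_assoc, ← mul_assoc (l : R)]
      rw [mul_add, add_mul, hlw]
      have e' : (l : R) * y * (↑l⁻¹ : R) + w * ((l : R) * x0 * (↑l⁻¹ : R)) + (y + w * x0)
          = e + w * c := by rw [he, hc, mul_add]; abel
      rw [e', hw, mul_assoc, hc'c, mul_one, hB.add_self]
    refine ⟨y + w * x0, w, ?_, hcen _ hz, hcen w hwC⟩
    rw [add_assoc, hB.add_self, add_zero]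
  intro a ha b hb
  obtain ⟨z, w, rfl, hz, hw⟩ := key a ha
  obtain ⟨z', w', rfl, hz', hw'⟩ := key b hb
  have hxb : Commute x0 (z' + w' * x0) :=
    (hz' x0 hx0).symm.add_right ((hw' x0 hx0).symm.mul_right (Commute.refl x0))
  exact (hz _ hb).add_left ((hw _ hb).mul_left hxb)

/-- The permutation `x ↦ a x a`. -/
noncomputable def U (s : R) (hs : s ∈ B) (h0 : s ≠ 0) : Equiv.Perm B where
  toFun x := ⟨s * x * s, hB.tri s hs _ x.2⟩
  invFun x := ⟨Ring.inverse s * x * Ring.inverse s, hB.tri _ (hB.inverse_mem hs) _ x.2⟩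
  left_inv x := by
    obtain ⟨u, rfl⟩ := hB.unit s hs h0
    ext; simp [mul_assoc]
  right_inv x := by
    obtain ⟨u, rfl⟩ := hB.unit s hs h0
    ext; simp [mul_assoc]

@[simp] theorem U_apply (s : R) (hs : s ∈ B) (h0 : s ≠ 0) (x : B) :
    (hB.U s hs h0 x : R) = s * x * s := rfl

/-- The inversion permutation. -/
noncomputable def iota : Equiv.Perm B where
  toFun x := ⟨Ring.inverse (x : R), hB.inverse_mem x.2⟩
  invFun x := ⟨Ring.inverse (x : R), hB.inverse_mem x.2⟩
  left_inv x := Subtype.ext (hB.inverse_inverse x.2)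
  right_inv x := Subtype.ext (hB.inverse_inverse x.2)

@[simp] theorem iota_apply (x : B) : (hB.iota x : R) = Ring.inverse (x : R) := rfl

theorem iota_mul_self : hB.iota * hB.iota = 1 :=
  Equiv.ext fun x => Subtype.ext (hB.inverse_inverse x.2)

theorem iota_inv : hB.iota⁻¹ = hB.iota := inv_eq_of_mul_eq_one_right hB.iota_mul_self

/-- The group generated by all `x ↦ a x a`. -/
noncomputable def T : Subgroup (Equiv.Perm B) :=
  Subgroup.closure {g | ∃ s hs h0, g = hB.U s hs h0}

theorem U_mem (s : R) (hs : s ∈ B) (h0 : s ≠ 0) : hB.U s hs h0 ∈ hB.T :=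
  Subgroup.subset_closure ⟨s, hs, h0, rfl⟩

theorem rep {g : Equiv.Perm B} (hg : g ∈ hB.T) :
    ∃ l m : Rˣ, ∀ x : B, (g x : R) = l * x * m := by
  refine Subgroup.closure_induction ?_ ⟨1, 1, fun x => by simp⟩ ?_ ?_ hg
  · rintro g ⟨s, hs, h0, rfl⟩
    obtain ⟨u, hu⟩ := hB.unit s hs h0
    exact ⟨u, u, fun x => by rw [U_apply, hu]⟩
  · rintro g h - - ⟨l, m, hg⟩ ⟨l', m', hh⟩
    exact ⟨l * l', m' * m, fun x => by
      rw [Equiv.Perm.mul_apply, hg, hh]; simp [mul_assoc]⟩
  · rintro g - ⟨l, m, hg⟩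
    refine ⟨l⁻¹, m⁻¹, fun x => ?_⟩
    have := hg (g⁻¹ x)
    rw [show g (g⁻¹ x) = x from g.apply_symm_apply x] at this
    rw [this]; simp [mul_assoc]

theorem iota_conj_U (s : R) (hs : s ∈ B) (h0 : s ≠ 0) :
    hB.iota * hB.U s hs h0 * hB.iota = (hB.U s hs h0)⁻¹ := by
  refine Equiv.ext fun x => Subtype.ext ?_
  show Ring.inverse (s * Ring.inverse (x : R) * s) = Ring.inverse s * x * Ring.inverse s
  obtain ⟨u, rfl⟩ := hB.unit s hs h0
  by_cases hx : (x : R) = 0
  · simp [hx]
  obtain ⟨v, hv⟩ := hB.unit _ x.2 hx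
  rw [← hv, Ring.inverse_unit, ← Units.val_mul, ← Units.val_mul, Ring.inverse_unit]
  simp [mul_assoc]

theorem iota_conj_mem {g : Equiv.Perm B} (hg : g ∈ hB.T) : hB.iota * g * hB.iota ∈ hB.T := by
  have : hB.T ≤ hB.T.comap (MulAut.conj hB.iota).toMonoidHom := by
    refine (Subgroup.closure_le _).2 ?_
    rintro g ⟨s, hs, h0, rfl⟩
    show hB.iota * hB.U s hs h0 * hB.iota⁻¹ ∈ hB.T
    rw [iota_inv, iota_conj_U]
    exact inv_mem (hB.U_mem s hs h0)
  have h := this hg
  rw [Subgroup.mem_comap] at h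
  simpa [hB.iota_inv] using h

theorem conj_of_fix {g : Equiv.Perm B} (hg : g ∈ hB.T) (h1 : (g ⟨1, hB.one_mem⟩ : R) = 1) :
    ∃ l : Rˣ, ∀ x : B, (g x : R) = l * x * (↑l⁻¹ : R) := by
  obtain ⟨l, m, h⟩ := hB.rep hg
  have := h ⟨1, hB.one_mem⟩
  rw [h1, mul_one, ← Units.val_mul] at this
  have hm : m = l⁻¹ := eq_inv_of_mul_eq_one_right (Units.ext (by simpa using this.symm))
  exact ⟨l, fun x => by rw [h, hm]⟩

theorem iota_comm_of_fix {g : Equiv.Perm B} (hg : g ∈ hB.T) (h1 : (g ⟨1, hB.one_mem⟩ : R) = 1) :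
    hB.iota * g * hB.iota = g := by
  obtain ⟨l, h⟩ := hB.conj_of_fix hg h1
  refine Equiv.ext fun x => Subtype.ext ?_
  show Ring.inverse (g (hB.iota x) : R) = g x
  rw [h, h, iota_apply]
  by_cases hx : (x : R) = 0
  · simp [hx]
  obtain ⟨v, hv⟩ := hB.unit _ x.2 hx
  rw [← hv, Ring.inverse_unit, ← Units.val_mul, ← Units.val_mul, Ring.inverse_unit]
  simp [mul_assoc]

theorem fix_of_iota_comm {g : Equiv.Perm B} (hg : g ∈ hB.T) (h : hB.iota * g * hB.iota = g) :
    (g ⟨1, hB.one_mem⟩ : R) = 1 := by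
  have h' : Ring.inverse (g ⟨1, hB.one_mem⟩ : R) = g ⟨1, hB.one_mem⟩ := by
    have := congrArg (fun q : Equiv.Perm B => (q ⟨1, hB.one_mem⟩ : R)) h
    simp only [Equiv.Perm.mul_apply, iota_apply] at this
    rwa [show hB.iota ⟨1, hB.one_mem⟩ = (⟨1, hB.one_mem⟩ : B) from
      Subtype.ext (by simp)] at this
  obtain ⟨l, m, hlm⟩ := hB.rep hg
  have hu : (g ⟨1, hB.one_mem⟩ : R) = ((l * m : Rˣ) : R) := by rw [hlm, mul_one, Units.val_mul]
  rw [hu, Ring.inverse_unit] at h'
  refine hB.eq_one_of_sq (g _).2 ?_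
  rw [hu]
  nth_rewrite 1 [← h']
  rw [Units.inv_mul]

theorem natCard_two_pow : ∃ k, Nat.card B = 2 ^ k := by
  haveI := hB.fin
  haveI : Fact (Nat.Prime 2) := ⟨Nat.prime_two⟩
  have : IsPGroup 2 (Multiplicative B) := fun x => ⟨1, by
    rw [pow_one, sq]
    exact Subtype.ext (hB.add_self (x.toAdd : R))⟩
  obtain ⟨k, hk⟩ := IsPGroup.iff_card.1 this
  exact ⟨k, by rwa [Nat.card_congr Multiplicative.toAdd] at hk⟩

section counterexample

variable (hIH : ∀ C : AddSubgroup R, JD C → C < B → ∀ a ∈ C, ∀ b ∈ C, Commute a b)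
  (hnc : ¬ ∀ a ∈ B, ∀ b ∈ B, Commute a b)
include hIH hnc

theorem one_ne_zero' : (1 : R) ≠ 0 := fun h => hnc fun a _ b _ => by
  rw [show a = 0 by rw [← mul_one a, h, mul_zero]]; exact Commute.zero_left b

omit hIH in
theorem transitive {v : R} (hv : v ∈ B) (h0 : v ≠ 0) :
    ∃ g ∈ hB.T, (g ⟨1, hB.one_mem⟩ : R) = v := by
  obtain ⟨s, hs, hss, -⟩ := hB.exists_root hv
  have hs0 : s ≠ 0 := fun h => h0 (by rw [← hss, h, zero_mul])
  exact ⟨hB.U s hs hs0, hB.U_mem _ _ _, by rw [U_apply, mul_one, hss]⟩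

theorem no_involution {g : Equiv.Perm B} (hg : g ∈ hB.T) (hgg : g * g = 1) : g = 1 := by
  classical
  by_contra hne
  haveI := hB.fin
  haveI : Fintype B := Fintype.ofFinite B
  haveI : Fact (Nat.Prime 2) := ⟨Nat.prime_two⟩
  have h20 : 2 ∣ Fintype.card B := by
    obtain ⟨k, hk⟩ := hB.natCard_two_pow
    rw [← Nat.card_eq_fintype_card, hk]
    refine dvd_pow_self 2 fun h => ?_
    rw [h, pow_zero] at hk
    haveI := (Nat.card_eq_one_iff_unique.1 hk).1
    exact hB.one_ne_zero' hIH hnc (congrArg Subtype.val (Subsingleton.elim (⟨1, hB.one_mem⟩ : B) 0))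
  have hg0 : g 0 = 0 := by
    obtain ⟨l, m, h⟩ := hB.rep hg
    exact Subtype.ext (by rw [h]; simp)
  obtain ⟨b, hb, hb0⟩ := Equiv.Perm.exists_fixed_point_of_prime' (p := 2) (n := 1) h20
    (by rw [pow_one, sq]; exact hgg) hg0
  obtain ⟨t, ht, htv⟩ := hB.transitive hnc b.2 (fun h => hb0 (Subtype.ext h))
  have htb : t ⟨1, hB.one_mem⟩ = b := Subtype.ext htv
  have hh : t⁻¹ * g * t ∈ hB.T := mul_mem (mul_mem (inv_mem ht) hg) ht
  have hh1 : ((t⁻¹ * g * t) ⟨1, hB.one_mem⟩ : R) = 1 := by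
    rw [Equiv.Perm.mul_apply, Equiv.Perm.mul_apply, htb, hb, ← htb]
    simp
  obtain ⟨l, hl⟩ := hB.conj_of_fix hh hh1
  have hsq : (t⁻¹ * g * t) * (t⁻¹ * g * t) = 1 := by
    rw [show (t⁻¹ * g * t) * (t⁻¹ * g * t) = t⁻¹ * (g * g) * t by group, hgg]; group
  refine hnc (hB.comm_of_involution hIH l (fun x hx => hl ⟨x, hx⟩ ▸ ((t⁻¹ * g * t) ⟨x, hx⟩).2) ?_ ?_)
  · intro x hx
    have := congrArg (fun q : Equiv.Perm B => (q ⟨x, hx⟩ : R)) hsq
    simp only [Equiv.Perm.one_apply] at this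
    rw [Equiv.Perm.mul_apply, hl, hl] at this
    exact this
  · by_contra hall
    push Not at hall
    refine hne ?_
    have : t⁻¹ * g * t = 1 := Equiv.ext fun x => Subtype.ext (by
      rw [hl, (hall x x.2).eq, Units.mul_inv_cancel_right]; rfl)
    rw [mul_assoc, inv_mul_eq_one] at this
    simpa using this.symm

theorem card_T_odd : ¬ 2 ∣ Nat.card hB.T := by
  intro h
  haveI := hB.fin
  haveI : Fact (Nat.Prime 2) := ⟨Nat.prime_two⟩
  obtain ⟨g, hg⟩ := exists_prime_orderOf_dvd_card' 2 h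
  have h1 : (g : Equiv.Perm B) = 1 := hB.no_involution hIH hnc g.2 (by
    have := pow_orderOf_eq_one g
    rw [hg, sq] at this
    exact congrArg Subtype.val this)
  rw [show g = 1 from Subtype.ext h1] at hg
  simp at hg

theorem exists_order {r k : ℕ} (hr : r.Prime) (hk : Nat.card B = 2 ^ k) (hd : r ∣ 2 ^ k - 1) :
    ∃ a ∈ B, a ^ r = 1 ∧ a ≠ 1 := by
  classical
  haveI := hB.fin
  haveI : Fact r.Prime := ⟨hr⟩
  let one' : B := ⟨1, hB.one_mem⟩
  let θ : MulAut hB.T :=
    { toFun := fun g => ⟨hB.iota * g * hB.iota, hB.iota_conj_mem g.2⟩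
      invFun := fun g => ⟨hB.iota * g * hB.iota, hB.iota_conj_mem g.2⟩
      left_inv := fun g => Subtype.ext (by
        show hB.iota * (hB.iota * g * hB.iota) * hB.iota = (g : Equiv.Perm B)
        rw [← mul_assoc, ← mul_assoc, hB.iota_mul_self, one_mul, mul_assoc, hB.iota_mul_self, mul_one])
      right_inv := fun g => Subtype.ext (by
        show hB.iota * (hB.iota * g * hB.iota) * hB.iota = (g : Equiv.Perm B)
        rw [← mul_assoc, ← mul_assoc, hB.iota_mul_self, one_mul, mul_assoc, hB.iota_mul_self, mul_one])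
      map_mul' := fun g h => Subtype.ext (by
        show hB.iota * ((g : Equiv.Perm B) * h) * hB.iota =
          hB.iota * g * hB.iota * (hB.iota * h * hB.iota)
        simp only [mul_assoc]
        rw [← mul_assoc hB.iota hB.iota, hB.iota_mul_self, one_mul]) }
  have hθ2 : ∀ g, θ (θ g) = g := fun g => θ.left_inv g
  haveI : Fintype (Sylow r hB.T) := Fintype.ofFinite _
  haveI : Fact (Nat.Prime 2) := ⟨Nat.prime_two⟩
  have hodd : ¬ 2 ∣ Fintype.card (Sylow r hB.T) := fun h => by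
    refine hB.card_T_odd hIH hnc (h.trans ?_)
    rw [← Nat.card_eq_fintype_card]
    exact ((default : Sylow r hB.T).card_dvd_index).trans (Subgroup.index_dvd_card _)
  have hθθ : θ * θ = 1 := MulEquiv.ext hθ2
  obtain ⟨S, hS⟩ := Equiv.Perm.exists_fixed_point_of_prime (p := 2) (n := 1) hodd
    (σ := MulAction.toPerm θ) (by
      rw [pow_one, sq]
      exact Equiv.ext fun S => by
        rw [Equiv.Perm.mul_apply, MulAction.toPerm_apply, MulAction.toPerm_apply, ← mul_smul,
          hθθ, one_smul, Equiv.Perm.one_apply])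
  have hθS : ∀ g ∈ (S : Subgroup hB.T), θ g ∈ (S : Subgroup hB.T) := fun g hg => by
    have : (θ • (S : Subgroup hB.T)) = (S : Subgroup hB.T) := congrArg Sylow.toSubgroup hS
    have h' := Subgroup.smul_mem_pointwise_smul g θ _ hg
    rw [this] at h'
    exact h'
  -- some element of `S` moves `1`
  obtain ⟨g, hgS, hg1⟩ : ∃ g ∈ (S : Subgroup hB.T), θ g ≠ g := by
    by_contra hall
    push Not at hall
    have hle : (S : Subgroup hB.T) ≤ MulAction.stabilizer hB.T one' := fun g hg =>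
      Subtype.ext (hB.fix_of_iota_comm g.2 (congrArg Subtype.val (hall g hg)))
    have horb : MulAction.orbit hB.T one' = {x : B | x ≠ 0} := by
      ext x
      constructor
      · rintro ⟨g, rfl⟩ h0
        obtain ⟨l, m, hlm⟩ := hB.rep g.2
        have h' : ((g : Equiv.Perm B) one' : R) = 0 := congrArg Subtype.val h0
        rw [hlm] at h'
        exact hB.one_ne_zero' hIH hnc (by
          simpa [one'] using congrArg (fun z : R => (↑l⁻¹ : R) * z * (↑m⁻¹ : R)) h')
      · intro hx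
        obtain ⟨g, hg, hgx⟩ := hB.transitive hnc x.2 (fun h => hx (Subtype.ext h))
        exact ⟨⟨g, hg⟩, Subtype.ext hgx⟩
    haveI : Fintype B := Fintype.ofFinite B
    have hidx : (MulAction.stabilizer hB.T one').index = 2 ^ k - 1 := by
      rw [MulAction.index_stabilizer, horb, ← hk, Nat.card_eq_fintype_card,
        Set.ncard_eq_toFinset_card', Set.toFinset_ofFinset]
      simp [Finset.filter_ne', Finset.card_erase_of_mem]
    exact S.not_dvd_index (hd.trans (hidx ▸ Subgroup.index_dvd_of_le hle))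
  -- an element inverted by `θ`
  set h := g⁻¹ * θ g with hh
  have hhS : h ∈ (S : Subgroup hB.T) := mul_mem (inv_mem hgS) (hθS g hgS)
  have hθh : θ h = h⁻¹ := by rw [hh, map_mul, map_inv, hθ2, mul_inv_rev, inv_inv]
  have hh1 : h ≠ 1 := fun e => hg1 (inv_mul_eq_one.1 e).symm
  set v : R := ((h : Equiv.Perm B) one' : R) with hv
  have hvB : v ∈ B := ((h : Equiv.Perm B) one').2
  have hv0 : v ≠ 0 := fun e => by
    obtain ⟨l, m, hlm⟩ := hB.rep h.2
    rw [hv, hlm] at e
    exact hB.one_ne_zero' hIH hnc (by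
      simpa [one'] using congrArg (fun z : R => (↑l⁻¹ : R) * z * (↑m⁻¹ : R)) e)
  obtain ⟨s, hs, hss, -⟩ := hB.exists_root hvB
  have hs0 : s ≠ 0 := fun e => hv0 (by rw [← hss, e, zero_mul])
  set u : hB.T := ⟨hB.U s hs hs0, hB.U_mem s hs hs0⟩ with hu
  have hθu : θ u = u⁻¹ := Subtype.ext (hB.iota_conj_U s hs hs0)
  have hfix : θ (u⁻¹ * h) = u⁻¹ * h := Subtype.ext (hB.iota_comm_of_fix (u⁻¹ * h).2 (by
    have : (hB.U s hs hs0)⁻¹ ((h : Equiv.Perm B) one') = one' := by
      rw [Equiv.Perm.inv_def, Equiv.symm_apply_eq]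
      exact Subtype.ext (by rw [U_apply]; simp [one', hss, hv])
    exact congrArg Subtype.val this))
  have hsq : h * h = u * u := by
    rw [map_mul, map_inv, hθu, inv_inv, hθh] at hfix
    calc h * h = u * (u⁻¹ * h) * h := by group
      _ = u * (u * h⁻¹) * h := by rw [← hfix]
      _ = u * u := by group
  obtain ⟨j, hj⟩ := S.isPGroup' ⟨h, hhS⟩
  have hj' : h ^ r ^ j = 1 := congrArg Subtype.val hj
  have hpow : ∀ n : ℕ, ((((u * u) ^ n : hB.T) : Equiv.Perm B) one' : R) = v ^ n * v ^ n := by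
    intro n
    induction n with
    | zero => simp [one']
    | succ n ih =>
      rw [pow_succ', Subgroup.coe_mul, Equiv.Perm.mul_apply, Subgroup.coe_mul,
        Equiv.Perm.mul_apply]
      show s * (s * _ * s) * s = _
      rw [ih, pow_succ']
      conv_lhs => rw [show s * (s * (v ^ n * v ^ n) * s) * s = (s * s) * v ^ n * (v ^ n * (s * s)) by
        simp only [mul_assoc]]
      rw [hss]
      simp only [mul_assoc]
      rw [((Commute.refl v).pow_left n).eq]
  have hvr : v ^ r ^ j = 1 := by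
    refine hB.eq_one_of_sq (hB.pow_mem hvB _) ?_
    rw [← hpow, ← hsq, (Commute.refl h).mul_pow, hj', one_mul]
    rfl
  have hv1 : v ≠ 1 := by
    intro e
    have hu1 : u * u = 1 := Subtype.ext (Equiv.ext fun x => Subtype.ext (by
      show s * (s * (x : R) * s) * s = _
      rw [show s * (s * (x : R) * s) * s = (s * s) * x * (s * s) by simp only [mul_assoc], hss, e]
      simp))
    rw [hu1] at hsq
    exact hh1 (Subtype.ext (hB.no_involution hIH hnc h.2 (congrArg Subtype.val hsq)))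
  have ho : orderOf v ∣ r ^ j := orderOf_dvd_of_pow_eq_one hvr
  obtain ⟨i, hij, hi⟩ := (Nat.dvd_prime_pow hr).1 ho
  rcases i with - | i
  · exact absurd (orderOf_eq_one_iff.1 (by simpa using hi)) hv1
  refine ⟨v ^ r ^ i, hB.pow_mem hvB _, ?_, ?_⟩
  · rw [← pow_mul, ← pow_succ, ← hi, pow_orderOf_eq_one]
  · intro e
    have h := Nat.le_of_dvd (pow_pos hr.pos i) (orderOf_dvd_of_pow_eq_one e)
    rw [hi] at h
    have : r ^ i < r ^ (i + 1) := Nat.pow_lt_pow_right hr.one_lt (by omega)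
    omega

omit hIH in
/-- The commutative subring of `B` spanned by two commuting elements is a proper one. -/
theorem exists_small {k : ℕ} (hk : Nat.card B = 2 ^ k) {a b : R} (ha : a ∈ B) (hb : b ∈ B)
    (hab : Commute a b) :
    ∃ j, 0 < j ∧ j < k ∧ ∀ x : R, (x = a ∨ x = b) → ∀ r : ℕ, r.Prime → x ^ r = 1 → x ≠ 1 →
      r ∣ 2 ^ j - 1 := by
  classical
  haveI := hB.fin
  have h10 : (1 : R) ≠ 0 := fun h => hnc fun a _ b _ => by
    rw [show a = 0 by rw [← mul_one a, h, mul_zero]]; exact Commute.zero_left b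
  let C : AddSubgroup R :=
    { carrier := {x | x ∈ B ∧ ∀ y ∈ B, Commute a y → Commute b y → Commute x y}
      zero_mem' := ⟨zero_mem B, fun y _ _ _ => Commute.zero_left y⟩
      add_mem' := fun hu hw => ⟨add_mem hu.1 hw.1, fun y hy h1 h2 =>
        (hu.2 y hy h1 h2).add_left (hw.2 y hy h1 h2)⟩
      neg_mem' := fun hu => ⟨neg_mem hu.1, fun y hy h1 h2 => (hu.2 y hy h1 h2).neg_left⟩ }
  have hca : ∀ x ∈ C, Commute a x ∧ Commute b x := fun x hx =>
    ⟨(hx.2 a ha (Commute.refl a) hab.symm).symm, (hx.2 b hb hab (Commute.refl b)).symm⟩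
  have hcomm : ∀ x ∈ C, ∀ y ∈ C, Commute x y := fun x hx y hy =>
    hx.2 y hy.1 (hca y hy).1 (hca y hy).2
  have hmul : ∀ x ∈ C, ∀ y ∈ C, x * y ∈ C := fun x hx y hy =>
    ⟨hB.mul_mem_of_commute hx.1 hy.1 (hcomm x hx y hy), fun z hz h1 h2 =>
      (hx.2 z hz h1 h2).mul_left (hy.2 z hz h1 h2)⟩
  have h1C : (1 : R) ∈ C := ⟨hB.one_mem, fun y _ _ _ => Commute.one_left y⟩
  have hCJ : JD C := hB.sub (fun x hx => hx.1) h1C fun x hx y hy => hmul _ (hmul x hx y hy) x hx
  haveI := hCJ.fin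
  obtain ⟨j, hj⟩ := hCJ.natCard_two_pow
  have hlt : C < B := lt_of_le_of_ne (fun x hx => hx.1) fun e => hnc fun x hx y hy =>
    hcomm x (e.ge hx) y (e.ge hy)
  have hcard : Nat.card C < Nat.card B := by
    have hb' : (B : Set R).Finite := Set.toFinite _
    exact Set.ncard_lt_ncard (SetLike.coe_ssubset_coe.2 hlt) hb'
  have hjk : j < k := by
    rw [hj, hk] at hcard
    exact (Nat.pow_lt_pow_iff_right Nat.one_lt_two).1 hcard
  have hj0 : 0 < j := by
    rcases Nat.eq_zero_or_pos j with rfl | h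
    · haveI := (Nat.card_eq_one_iff_unique.1 (hj.trans (pow_zero 2))).1
      exact absurd (congrArg Subtype.val (Subsingleton.elim (⟨1, h1C⟩ : C) 0)) h10
    · exact h
  refine ⟨j, hj0, hjk, fun x hx r hr hxr hx1 => ?_⟩
  have hxC : x ∈ C := by
    rcases hx with rfl | rfl
    · exact ⟨ha, fun y _ h1 _ => h1⟩
    · exact ⟨hb, fun y _ _ h2 => h2⟩
  let S : Subring R :=
    { C with
      mul_mem' := fun {u w} hu hw => hmul u hu w hw
      one_mem' := h1C }
  have hmem : ∀ z : R, z ∈ S ↔ z ∈ C := fun z => Iff.rfl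
  have hpow : ∀ n : ℕ, x ^ n ∈ C := fun n => (hmem _).1 (_root_.pow_mem (show x ∈ S from hxC) n)
  have hunit : ∀ z : S, z ≠ 0 → IsUnit z := fun z hz => by
    obtain ⟨e, he⟩ := hCJ.exists_odd_pow (a := (z : R)) z.2 (fun h => hz (Subtype.ext h))
    exact IsUnit.of_pow_eq_one (show z ^ (2 * e + 1) = 1 from Subtype.ext (by simpa using he))
      (by omega)
  haveI : Nontrivial S := ⟨0, 1, fun h => h10 (congrArg Subtype.val h).symm⟩
  let eu : Sˣ ≃ {z : S // z ≠ 0} :=
    { toFun := fun u => ⟨u, u.ne_zero⟩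
      invFun := fun z => (hunit z.1 z.2).unit
      left_inv := fun u => Units.ext rfl
      right_inv := fun z => Subtype.ext rfl }
  haveI : Finite S := Finite.of_equiv C (Equiv.refl _)
  haveI : Fintype S := Fintype.ofFinite S
  have hcu : Nat.card Sˣ = 2 ^ j - 1 := by
    rw [Nat.card_congr eu, Nat.card_eq_fintype_card, Fintype.card_subtype_compl, Fintype.card_subtype_eq,
      ← hj, Nat.card_eq_fintype_card.symm.trans (Nat.card_congr (Equiv.refl C) : Nat.card S = Nat.card C)]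
  let xu : Sˣ := Units.ofPowEqOne (⟨x, hxC⟩ : S) r (Subtype.ext (by simpa using hxr)) hr.pos.ne'
  haveI : Fact r.Prime := ⟨hr⟩
  have hox : orderOf xu = r := by
    refine orderOf_eq_prime (Units.ext (Subtype.ext (by simpa [xu] using hxr))) fun e => ?_
    exact hx1 (congrArg (fun q : Sˣ => ((q : S) : R)) e)
  rw [← hcu, ← hox]
  exact orderOf_dvd_natCard xu

theorem absurd' : False := by
  haveI := hB.fin
  have h10 := hB.one_ne_zero' hIH hnc
  obtain ⟨k, hk⟩ := hB.natCard_two_pow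
  by_cases hk1 : k ≤ 1
  · refine hnc fun a ha b hb => ?_
    have key : ∀ x ∈ B, x = 0 ∨ x = 1 := by
      intro x hx
      by_contra hne
      push Not at hne
      have h3 : ({0, 1, x} : Set R) ⊆ B := by
        rintro z (rfl | rfl | rfl)
        exacts [zero_mem B, hB.one_mem, hx]
      have := Set.ncard_le_ncard h3 (Set.toFinite (B : Set R))
      rw [Set.ncard_insert_of_notMem (by simp [h10.symm, hne.1.symm]) (Set.toFinite _),
        Set.ncard_pair (Ne.symm hne.2)] at this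
      have hk' : Nat.card B ≤ 2 := hk ▸ Nat.pow_le_pow_right (by norm_num) hk1 |>.trans (le_refl _)
      have : 3 ≤ Nat.card B := this
      omega
    rcases key a ha with rfl | rfl
    · exact Commute.zero_left b
    · exact Commute.one_left b
  by_cases hk6 : k = 6
  · subst hk6
    obtain ⟨b, hb, hb3, hb1⟩ := hB.exists_order hIH hnc Nat.prime_three hk (by norm_num)
    obtain ⟨a, ha, ha7, ha1⟩ := hB.exists_order hIH hnc (r := 7) (by norm_num) hk (by norm_num)
    have hb0 : b * b + b = 1 := by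
      refine hB.eq_of_add ((hB.unit (b + 1) (add_mem hb hB.one_mem)
        (fun e => hb1 (hB.eq_of_add e))).mul_right_eq_zero.1 ?_)
      have e : (b + 1) * (b * b + b + 1) = b ^ 3 + 1 + ((b * b + b * b) + (b + b)) := by
        simp only [pow_succ, pow_zero, one_mul, add_mul, mul_add, mul_one, mul_assoc]; abel
      rw [e, hb3, hB.add_self, hB.add_self, hB.add_self, add_zero, add_zero]
    have hbc := hB.central_of_idem hb (fun x _ => hb0 ▸ Commute.one_left x)
    obtain ⟨j, hj0, hj6, hj⟩ := hB.exists_small hnc hk ha hb (hbc a ha).symm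
    have h7 := hj a (Or.inl rfl) 7 (by norm_num) ha7 ha1
    have h3 := hj b (Or.inr rfl) 3 Nat.prime_three hb3 hb1
    interval_cases j <;> omega
  · obtain ⟨r, hr, hrd, hprim⟩ := CharP.Zsigmondy.zsigmondy (a := 2) (n := k) one_lt_two
      (by omega) (fun h => hk6 h.2) (by
        rintro ⟨-, m, hm⟩
        rcases m with - | m
        · simp at hm
        · have : 2 ∣ 2 + 1 := hm ▸ dvd_pow_self 2 (by omega)
          omega)
    obtain ⟨a, ha, har, ha1⟩ := hB.exists_order hIH hnc hr hk hrd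
    obtain ⟨j, hj0, hjk, hj⟩ := hB.exists_small hnc hk ha ha (Commute.refl a)
    exact hprim j hj0 hjk (hj a (Or.inl rfl) r hr har ha1)

end counterexample

end JD

/-- A finite division set of characteristic two is commutative. -/
theorem JD.commute {B : AddSubgroup R} (hB : JD B) : ∀ a ∈ B, ∀ b ∈ B, Commute a b := by
  suffices h : ∀ n (B : AddSubgroup R), JD B → Nat.card B = n → ∀ a ∈ B, ∀ b ∈ B, Commute a b from
    h _ B hB rfl
  intro n
  induction n using Nat.strong_induction_on with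
  | _ n ih =>
    intro B hB hn
    haveI := hB.fin
    by_contra hnc
    refine hB.absurd' (fun C hC hlt => ih (Nat.card C) ?_ C hC rfl) hnc
    rw [← hn]
    exact Set.ncard_lt_ncard (SetLike.coe_ssubset_coe.2 hlt) (Set.toFinite (B : Set R))

end Cfsg.Agent.TISpread
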