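import Cfsg.Prelude.Def_Amalgam
import Cfsg.Prelude.Def_Transfer
import Cfsg.Agent.Lib.CharP.Sylow
import Cfsg.Agent.Lib.Cores.Nilpotent

/-!
An elementary abelian TI 2-subgroup `V`, maximal abelian normal in `M = N(V)` with `F*(M) = O₂(M)`, and a conjugate
`V'` inside `O₂(M)`: the structure of `C_{O₂(M)}(V)`, the symmetry between `V` and `V'`, and `C_{O₂(M)}(V) = O₂(M)`.
-/

set_option autoImplicit false
set_option linter.style.longLine false

namespace Cfsg.Agent.TISpread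

open Subgroup

variable {G : Type*} [Group G]

/-- Conjugate subgroup. -/
abbrev cj (x : G) (K : Subgroup G) : Subgroup G := K.map (MulAut.conj x).toMonoidHom

theorem mem_cj {x y : G} {K : Subgroup G} : y ∈ cj x K ↔ x⁻¹ * y * x ∈ K := by
  constructor
  · rintro ⟨k, hk, rfl⟩
    simpa [MulAut.conj_apply, mul_assoc] using hk
  · exact fun h => ⟨_, h, by simp [MulAut.conj_apply, mul_assoc]⟩

theorem cj_mem {x k : G} {K : Subgroup G} (h : k ∈ K) : x * k * x⁻¹ ∈ cj x K := ⟨k, h, rfl⟩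

theorem cj_cj (a b : G) (K : Subgroup G) : cj a (cj b K) = cj (a * b) K := CharP.conj_map_map a b K

theorem cj_one (K : Subgroup G) : cj 1 K = K := CharP.conj_map_one K

theorem cj_inv_cj (a : G) (K : Subgroup G) : cj a⁻¹ (cj a K) = K := by
  rw [cj_cj, inv_mul_cancel, cj_one]

theorem cj_normalizer (x : G) (K : Subgroup G) :
    cj x (normalizer (K : Set G)) = normalizer ((cj x K : Subgroup G) : Set G) :=
  map_equiv_normalizer_eq K (MulAut.conj x)

theorem nmem {K : Subgroup G} {x k : G} (hx : x ∈ normalizer (K : Set G)) (hk : k ∈ K) :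
    x * k * x⁻¹ ∈ K := (mem_normalizer_iff.1 hx k).1 hk

theorem nmem' {K : Subgroup G} {x k : G} (hx : x ∈ normalizer (K : Set G)) (hk : k ∈ K) :
    x⁻¹ * k * x ∈ K := by simpa using nmem (inv_mem hx) hk

/-- `cm p x = [p, x]`. -/
def cm (p x : G) : G := p * x * p⁻¹ * x⁻¹

theorem cm_spec (p x : G) : p * x * p⁻¹ = cm p x * x := by simp [cm, mul_assoc]

theorem cm_inv (p x : G) : (cm p x)⁻¹ = cm x p := by simp [cm, mul_assoc]

theorem cm_eq_one {p x : G} : cm p x = 1 ↔ Commute p x := by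
  rw [cm, mul_inv_eq_one, mul_inv_eq_iff_eq_mul]; rfl

/-- `O₂(N(V))`. -/
def QQ (V : Subgroup G) : Subgroup G := Cfsg.pCoreOf 2 (normalizer (V : Set G))

/-- `C(V) ∩ O₂(N(V))`. -/
def PP (V : Subgroup G) : Subgroup G := QQ V ⊓ centralizer (V : Set G)

theorem QQ_cj (x : G) (V : Subgroup G) : QQ (cj x V) = cj x (QQ V) := by
  rw [QQ, ← cj_normalizer]; exact CharP.pCoreOf_conj x _

theorem PP_cj (x : G) (V : Subgroup G) : PP (cj x V) = cj x (PP V) := by
  ext y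
  simp only [PP, mem_inf, mem_cj, QQ_cj, mem_centralizer_iff]
  refine and_congr Iff.rfl ⟨fun h v hv => ?_, fun h v hv => ?_⟩
  · have := h (x * v * x⁻¹) (cj_mem hv)
    calc v * (x⁻¹ * y * x) = x⁻¹ * (x * v * x⁻¹ * y) * x := by group
      _ = x⁻¹ * (y * (x * v * x⁻¹)) * x := by rw [this]
      _ = x⁻¹ * y * x * v := by group
  · have := h _ (mem_cj.1 hv)
    calc v * y = x * (x⁻¹ * v * x * (x⁻¹ * y * x)) * x⁻¹ := by group
      _ = x * (x⁻¹ * y * x * (x⁻¹ * v * x)) * x⁻¹ := by rw [this]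
      _ = y * v := by group

/-- The hypotheses on `V`. -/
structure Conf (V : Subgroup G) : Prop where
  el : Cfsg.IsElementaryAbelian 2 V
  char2 : ∀ x ∈ normalizer (V : Set G), (∀ y ∈ QQ V, Commute x y) → x ∈ QQ V
  max : ∀ A : Subgroup G, V ≤ A → A ≤ normalizer (V : Set G) → IsMulCommutative ↥A →
      (∀ m ∈ normalizer (V : Set G), ∀ a ∈ A, m * a * m⁻¹ ∈ A) → A = V
  ti : ∀ x : G, cj x V = V ∨ cj x V ⊓ V = ⊥

namespace Conf

variable {V : Subgroup G}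

theorem conj (h : Conf V) (x : G) : Conf (cj x V) := by
  refine ⟨⟨?_, ?_⟩, ?_, ?_, ?_⟩
  · haveI := h.el.1
    infer_instance
  · rintro _ ⟨v, hv, rfl⟩
    rw [← map_pow, h.el.2 v hv, map_one]
  · intro y hy hc
    rw [← cj_normalizer, mem_cj] at hy
    rw [QQ_cj, mem_cj]
    refine h.char2 _ hy fun z hz => ?_
    have := hc (x * z * x⁻¹) (by rw [QQ_cj]; exact cj_mem hz)
    calc x⁻¹ * y * x * z = x⁻¹ * (y * (x * z * x⁻¹)) * x := by group
      _ = x⁻¹ * (x * z * x⁻¹ * y) * x := by rw [this.eq]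
      _ = z * (x⁻¹ * y * x) := by group
  · intro A hVA hAN hA hinv
    have hN : ∀ m, m ∈ normalizer (V : Set G) → x * m * x⁻¹ ∈ normalizer ((cj x V : Subgroup G) : Set G) := by
      intro m hm; rw [← cj_normalizer]; exact cj_mem hm
    have := h.max (cj x⁻¹ A) (fun v hv => mem_cj.2 (by rw [inv_inv]; exact hVA (cj_mem hv)))
      (fun a ha => by
        rw [mem_cj, inv_inv] at ha
        have h1 := hAN ha
        rw [← cj_normalizer, mem_cj] at h1
        simpa [mul_assoc] using h1)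
      inferInstance (fun m hm a ha => by
        rw [mem_cj, inv_inv] at ha ⊢
        have := hinv _ (hN m hm) _ ha
        simpa [mul_assoc] using this)
    rw [← this, cj_cj, mul_inv_cancel, cj_one]
  · intro y
    rcases h.ti (x⁻¹ * y * x) with e | e
    · left
      have := congrArg (cj x) e
      rw [cj_cj] at this
      rw [cj_cj, ← this, show x * (x⁻¹ * y * x) = y * x by group]
    · right
      refine le_bot_iff.1 fun w hw => ?_
      rw [cj_cj] at hw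
      have h1 : x⁻¹ * w * x ∈ cj (x⁻¹ * y * x) V ⊓ V := by
        refine ⟨mem_cj.2 ?_, mem_cj.1 hw.2⟩
        have := mem_cj.1 hw.1
        simpa [mul_assoc] using this
      rw [e, mem_bot] at h1
      rw [mem_bot]
      calc w = x * (x⁻¹ * w * x) * x⁻¹ := by group
        _ = 1 := by rw [h1]; group

variable (h : Conf V)
include h

theorem mul_self {v : G} (hv : v ∈ V) : v * v = 1 := by rw [← sq]; exact h.el.2 v hv

theorem inv_eq {v : G} (hv : v ∈ V) : v⁻¹ = v := inv_eq_of_mul_eq_one_right (h.mul_self hv)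

theorem comm {v w : G} (hv : v ∈ V) (hw : w ∈ V) : Commute v w := by
  haveI := h.el.1
  exact congrArg Subtype.val (mul_comm' (⟨v, hv⟩ : V) ⟨w, hw⟩)

theorem cent_norm {v x : G} (hv : v ∈ V) (hv1 : v ≠ 1) (hx : Commute x v) :
    x ∈ normalizer (V : Set G) := by
  rcases h.ti x with e | e
  · exact CharP.mem_normalizer_of_conj_map e
  · have : v ∈ cj x V ⊓ V := ⟨mem_cj.2 (by rwa [mul_assoc, ← hx.eq, inv_mul_cancel_left]), hv⟩
    rw [e, mem_bot] at this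
    exact absurd this hv1

theorem eq_of_mem {a b : G} {v : G} (hva : v ∈ cj a V) (hvb : v ∈ cj b V) (hv1 : v ≠ 1) :
    cj a V = cj b V := by
  rcases (h.conj b).ti (a * b⁻¹) with e | e
  · rw [cj_cj, inv_mul_cancel_right] at e
    exact e
  · rw [cj_cj, inv_mul_cancel_right] at e
    have : v ∈ cj a V ⊓ cj b V := ⟨hva, hvb⟩
    rw [e, mem_bot] at this
    exact absurd this hv1

theorem isPGroup : IsPGroup 2 V := fun v => ⟨1, Subtype.ext (by
  rw [pow_one, SubmonoidClass.coe_pow]; exact h.el.2 v v.2)⟩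

theorem le_QQ : V ≤ QQ V := CharP.le_pCoreOf le_normalizer le_rfl h.isPGroup

theorem le_PP : V ≤ PP V := fun v hv =>
  ⟨h.le_QQ hv, mem_centralizer_iff.2 fun w hw => (h.comm hw hv).eq⟩

omit h in
theorem QQ_le_norm : QQ V ≤ normalizer (V : Set G) := CharP.pCoreOf_le 2 _

omit h in
theorem norm_QQ {m y : G} (hm : m ∈ normalizer (V : Set G)) (hy : y ∈ QQ V) : m * y * m⁻¹ ∈ QQ V :=
  nmem (CharP.le_normalizer_pCoreOf 2 _ hm) hy

omit h in
theorem PP_le_QQ : PP V ≤ QQ V := inf_le_left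

omit h in
theorem PP_comm_V {p v : G} (hp : p ∈ PP V) (hv : v ∈ V) : Commute p v :=
  (mem_centralizer_iff.1 hp.2 v hv).symm

omit h in
theorem norm_PP {m p : G} (hm : m ∈ normalizer (V : Set G)) (hp : p ∈ PP V) : m * p * m⁻¹ ∈ PP V := by
  refine ⟨norm_QQ hm hp.1, mem_centralizer_iff.2 fun v hv => ?_⟩
  have := (PP_comm_V hp (nmem' hm hv)).eq
  calc v * (m * p * m⁻¹) = m * (m⁻¹ * v * m * p) * m⁻¹ := by group
    _ = m * (p * (m⁻¹ * v * m)) * m⁻¹ := by rw [this]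
    _ = m * p * m⁻¹ * v := by group

omit h in
theorem PP_le_norm : PP V ≤ normalizer (V : Set G) := PP_le_QQ.trans QQ_le_norm

theorem cm_mem {p v : G} (hp : p ∈ normalizer (V : Set G)) (hv : v ∈ V) : cm p v ∈ V :=
  mul_mem (nmem hp hv) (inv_mem hv)

variable [Finite G]

omit h in
theorem card_cj (x : G) (K : Subgroup G) : Nat.card (cj x K) = Nat.card K :=
  (Nat.card_congr (equivMapOfInjective K _ (MulAut.conj x).injective).toEquiv).symm

/-- Two distinct conjugates, one normalising the other, commute. -/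
theorem commute_of_norm {a : G} (hne : cj a V ≠ V) (hn : cj a V ≤ normalizer (V : Set G))
    {x v : G} (hx : x ∈ cj a V) (hv : v ∈ V) : Commute x v := by
  set V' := cj a V with hV'
  have h' := h.conj a
  have hdis : ∀ z ∈ V', z ∈ V → z = 1 := fun z hz hz' => by
    by_contra hz1
    exact hne (by rw [hV', h.eq_of_mem hz (b := 1) (by rwa [cj_one]) hz1, cj_one])
  have hk : ∀ v ∈ V, ∀ y ∈ V', y ≠ 1 → Commute y v → ∀ x ∈ V', Commute x v := by
    intro v hv y hy hy1 hc x hx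
    have hvn := h'.cent_norm hy hy1 hc.symm
    rw [← cm_eq_one]
    refine hdis _ ?_ (h.cm_mem (hn hx) hv)
    rw [← inv_inv (cm x v), cm_inv]
    exact inv_mem (h'.cm_mem hvn hx)
  by_contra hcon
  let f : V' → V := fun y => ⟨cm y v, h.cm_mem (hn y.2) hv⟩
  have hinj : Function.Injective f := by
    intro y z e
    have e' : (y : G) * v * (y : G)⁻¹ = (z : G) * v * (z : G)⁻¹ :=
      mul_right_cancel (congrArg Subtype.val e : cm (y : G) v = cm (z : G) v)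
    by_contra hne'
    refine hcon (hk v hv ((z : G)⁻¹ * y) (mul_mem (inv_mem z.2) y.2) ?_ ?_ x hx)
    · intro e1
      exact hne' (Subtype.ext (inv_mul_eq_one.1 e1).symm)
    · show (z : G)⁻¹ * y * v = v * ((z : G)⁻¹ * y)
      calc (z : G)⁻¹ * y * v = (z : G)⁻¹ * ((y : G) * v * (y : G)⁻¹) * y := by group
        _ = (z : G)⁻¹ * ((z : G) * v * (z : G)⁻¹) * y := by rw [e']
        _ = v * ((z : G)⁻¹ * y) := by group
  have hsurj : Function.Surjective f :=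
    ((Nat.bijective_iff_injective_and_card f).2 ⟨hinj, card_cj a V⟩).2
  -- every value of `f` centralises `V'`
  obtain ⟨y, hy⟩ := hsurj ⟨v, hv⟩
  have hy' : cm (y : G) v = v := congrArg Subtype.val hy
  have : (y : G) * v * (y : G)⁻¹ = 1 := by rw [cm_spec, hy', h.mul_self hv]
  have hv1 : v = 1 := by
    rw [mul_inv_eq_one] at this
    exact mul_left_cancel (this.trans (mul_one _).symm)
  exact hcon (hv1 ▸ Commute.one_right x)

end Conf

/-- A conjugate of `V` in `O₂(N(V))` different from `V`. -/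
structure Pair (V V' : Subgroup G) : Prop where
  conf : Conf V
  conj : ∃ x, V' = cj x V
  ne : V' ≠ V
  le : V' ≤ QQ V

/-- `V'` and `V₁` do not commute elementwise. -/
def Apart (V' V₁ : Subgroup G) : Prop := ∃ x ∈ V', ∃ y ∈ V₁, ¬ Commute x y

theorem Apart.symm {V' V₁ : Subgroup G} (h : Apart V' V₁) : Apart V₁ V' := by
  obtain ⟨x, hx, y, hy, hxy⟩ := h
  exact ⟨y, hy, x, hx, fun h => hxy h.symm⟩

namespace Pair

variable {V V' V₁ : Subgroup G} (p : Pair V V')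
include p

theorem conf' : Conf V' := by
  obtain ⟨a, rfl⟩ := p.conj; exact p.conf.conj a

theorem left_eq : ∃ y, V = cj y V' := by
  obtain ⟨a, ha⟩ := p.conj
  exact ⟨a⁻¹, by rw [ha, cj_inv_cj]⟩

theorem disj {x : G} (hx : x ∈ V') (hx' : x ∈ V) : x = 1 := by
  obtain ⟨a, ha⟩ := p.conj
  by_contra h1
  exact p.ne (by rw [ha, p.conf.eq_of_mem (ha ▸ hx) (b := 1) (by rwa [cj_one]) h1, cj_one])

theorem of_norm {m : G} (hm : m ∈ normalizer (V : Set G)) : Pair V (cj m V') := by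
  obtain ⟨a, ha⟩ := p.conj
  refine ⟨p.conf, ⟨m * a, by rw [ha, cj_cj]⟩, fun e => p.ne ?_, ?_⟩
  · rw [← cj_inv_cj m V', e]
    exact CharP.conj_map_of_mem (inv_mem hm)
  · intro y hy
    rw [mem_cj] at hy
    have := Conf.norm_QQ hm (p.le hy)
    simpa [mul_assoc] using this

variable [Finite G]

theorem comm {x v : G} (hx : x ∈ V') (hv : v ∈ V) : Commute x v := by
  obtain ⟨a, rfl⟩ := p.conj
  exact p.conf.commute_of_norm p.ne (p.le.trans Conf.QQ_le_norm) hx hv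

theorem le_PP : V' ≤ PP V := fun _ hx =>
  ⟨p.le hx, mem_centralizer_iff.2 fun _ hv => (p.comm hx hv).eq.symm⟩

theorem card_eq : Nat.card V' = Nat.card V := by
  obtain ⟨a, ha⟩ := p.conj; rw [ha]; exact Conf.card_cj a V

theorem exists_ne_one : ∃ x ∈ V', x ≠ 1 := by
  by_contra hall
  push Not at hall
  have h1 : V' = ⊥ := (Subgroup.eq_bot_iff_forall V').2 hall
  have : Nat.card V = 1 := by rw [← p.card_eq, h1, Subgroup.card_bot]
  exact p.ne (by rw [h1, Subgroup.eq_bot_of_card_eq V this])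

/-- The conjugates of `V'` under `N(V)`. -/
def S (_p : Pair V V') : Set G := {y | ∃ m ∈ normalizer (V : Set G), ∃ x ∈ V', y = m * x * m⁻¹}

/-- `U = {u ∈ C_Q(V) | [u, Q] ≤ V}`. -/
def U (_p : Pair V V') : Subgroup G where
  carrier := {u | u ∈ PP V ∧ ∀ y ∈ QQ V, cm u y ∈ V}
  one_mem' := ⟨one_mem _, fun y _ => by simp [cm]⟩
  mul_mem' := by
    rintro u w ⟨hu, hu'⟩ ⟨hw, hw'⟩
    refine ⟨mul_mem hu hw, fun y hy => ?_⟩
    have e : cm (u * w) y = u * cm w y * u⁻¹ * cm u y := by simp [cm, mul_assoc]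
    rw [e, (Conf.PP_comm_V hu (hw' y hy)).eq, mul_inv_cancel_right]
    exact mul_mem (hw' y hy) (hu' y hy)
  inv_mem' := by
    rintro u ⟨hu, hu'⟩
    refine ⟨inv_mem hu, fun y hy => ?_⟩
    have e : cm u⁻¹ y = u⁻¹ * (cm u y)⁻¹ * u := by simp [cm, mul_assoc]
    rw [e, (Conf.PP_comm_V (inv_mem hu) (inv_mem (hu' y hy))).eq, inv_mul_cancel_right]
    exact inv_mem (hu' y hy)

omit [Finite G] in
theorem V_le_U : V ≤ p.U := fun v hv =>
  ⟨p.conf.le_PP hv, fun y hy => by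
    rw [← inv_inv (cm v y), cm_inv]
    exact inv_mem (p.conf.cm_mem (Conf.QQ_le_norm hy) hv)⟩

omit [Finite G] in
theorem U_norm {m u : G} (hm : m ∈ normalizer (V : Set G)) (hu : u ∈ p.U) : m * u * m⁻¹ ∈ p.U := by
  refine ⟨Conf.norm_PP hm hu.1, fun y hy => ?_⟩
  have := nmem hm (hu.2 (m⁻¹ * y * m) (by simpa using Conf.norm_QQ (inv_mem hm) hy))
  simpa [cm, mul_assoc] using this

/-- A `Q`-invariant subgroup of `C_Q(V)` above `V` meets `U` above `V`. -/
theorem fixed_above {K : Subgroup G} (hVK : V ≤ K) (hK : K ≤ PP V)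
    (hn : ∀ y ∈ QQ V, ∀ k ∈ K, y * k * y⁻¹ ∈ K) (hne : ¬ K ≤ V) :
    ∃ u ∈ K, u ∉ V ∧ u ∈ p.U := by
  haveI : Fact (Nat.Prime 2) := ⟨Nat.prime_two⟩
  have hKQ : K ≤ QQ V := hK.trans Conf.PP_le_QQ
  haveI : (V.subgroupOf (QQ V)).Normal :=
    ⟨fun v hv y => mem_subgroupOf.2 (nmem (Conf.QQ_le_norm y.2) (mem_subgroupOf.1 hv))⟩
  haveI : (K.subgroupOf (QQ V)).Normal := ⟨fun k hk y => hn y y.2 k hk⟩
  set π := QuotientGroup.mk' (V.subgroupOf (QQ V)) with hπ
  haveI : ((K.subgroupOf (QQ V)).map π).Normal :=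
    Subgroup.Normal.map inferInstance π (QuotientGroup.mk'_surjective _)
  have hQ2 : IsPGroup 2 (QQ V) := CharP.isPGroup_pCoreOf 2 _
  haveI : Group.IsNilpotent (↥(QQ V) ⧸ V.subgroupOf (QQ V)) :=
    (hQ2.to_quotient _).isNilpotent
  have hne' : (K.subgroupOf (QQ V)).map π ≠ ⊥ := by
    intro e
    refine hne fun k hk => ?_
    have : π ⟨k, hKQ hk⟩ = 1 := by
      rw [← Subgroup.mem_bot, ← e]; exact mem_map_of_mem π hk
    exact (QuotientGroup.eq_one_iff (N := V.subgroupOf (QQ V)) _).1 this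
  obtain ⟨⟨z, hz⟩, hz1⟩ := (Subgroup.ne_bot_iff_exists_ne_one).1 (Cores.inf_center_ne_bot hne')
  obtain ⟨k, hk, rfl⟩ := hz.1
  refine ⟨k, hk, fun hkV => hz1 (Subtype.ext ?_), hK hk, fun y hy => ?_⟩
  · exact (QuotientGroup.eq_one_iff (N := V.subgroupOf (QQ V)) _).2 hkV
  · have hc := Subgroup.mem_center_iff.1 hz.2 (π ⟨y, hy⟩)
    have h1 : π (k * ⟨y, hy⟩ * k⁻¹ * (⟨y, hy⟩ : ↥(QQ V))⁻¹) = 1 := by
      rw [map_mul, map_mul, map_mul, map_inv, map_inv, ← hc]; group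
    exact (QuotientGroup.eq_one_iff (N := V.subgroupOf (QQ V)) _).1 h1

/-- `R = V⟨V'^M⟩`. -/
def R (p : Pair V V') : Subgroup G := Subgroup.closure ((V : Set G) ∪ p.S)

theorem R_le_PP : p.R ≤ PP V := by
  refine (closure_le _).2 ?_
  rintro y (hy | ⟨m, hm, x, hx, rfl⟩)
  · exact p.conf.le_PP hy
  · exact Conf.norm_PP hm (p.le_PP hx)

omit [Finite G] in
theorem R_norm {m r : G} (hm : m ∈ normalizer (V : Set G)) (hr : r ∈ p.R) : m * r * m⁻¹ ∈ p.R := by
  have : p.R ≤ p.R.comap (MulAut.conj m).toMonoidHom := by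
    refine (closure_le _).2 ?_
    rintro y (hy | ⟨k, hk, x, hx, rfl⟩)
    · exact subset_closure (Or.inl (nmem hm hy))
    · exact subset_closure (Or.inr ⟨m * k, mul_mem hm hk, x, hx, by simp [mul_assoc]⟩)
  exact this hr

theorem not_R_le : ¬ p.R ≤ V := fun hle => by
  obtain ⟨x, hx, hx1⟩ := p.exists_ne_one
  exact hx1 (p.disj hx (hle (subset_closure (Or.inr ⟨1, one_mem _, x, hx, by simp⟩))))

omit [Finite G] in
theorem eq_V_of_commute {A : Subgroup G} (hVA : V ≤ A) (hA : A ≤ PP V)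
    (hn : ∀ m ∈ normalizer (V : Set G), ∀ a ∈ A, m * a * m⁻¹ ∈ A)
    (hc : ∀ a ∈ A, ∀ b ∈ A, Commute a b) : A = V :=
  p.conf.max A hVA (hA.trans Conf.PP_le_norm) ⟨⟨fun a b => Subtype.ext (hc a a.2 b b.2)⟩⟩ hn

/-- Some element of `U` does not centralise `V'`. -/
theorem exists_U_move : ∃ u ∈ p.U, ∃ x ∈ V', ¬ Commute u x := by
  by_contra hall
  push Not at hall
  have hS : ∀ u ∈ p.U, ∀ y ∈ p.S, Commute u y := by
    rintro u hu _ ⟨m, hm, x, hx, rfl⟩
    have hmu : m⁻¹ * u * m ∈ p.U := by simpa using p.U_norm (inv_mem hm) hu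
    have := (hall _ hmu x hx).eq
    show u * (m * x * m⁻¹) = m * x * m⁻¹ * u
    calc u * (m * x * m⁻¹) = m * (m⁻¹ * u * m * x) * m⁻¹ := by group
      _ = m * (x * (m⁻¹ * u * m)) * m⁻¹ := by rw [this]
      _ = m * x * m⁻¹ * u := by group
  have hA : p.U ⊓ p.R = V := by
    refine p.eq_V_of_commute (le_inf p.V_le_U fun v hv => subset_closure (Or.inl hv))
      (fun a ha => ha.1.1) (fun m hm a ha => ⟨p.U_norm hm ha.1, p.R_norm hm ha.2⟩) ?_
    intro a ha b hb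
    have : p.R ≤ centralizer ({a} : Set G) := by
      refine (closure_le _).2 ?_
      rintro y (hy | hy) <;> rw [SetLike.mem_coe, mem_centralizer_singleton_iff]
      · exact (Conf.PP_comm_V ha.1.1 hy).eq.symm
      · exact (hS a ha.1 y hy).eq.symm
    exact (mem_centralizer_singleton_iff.1 (this hb.2)).symm
  obtain ⟨u, huR, huV, huU⟩ := p.fixed_above (fun v hv => subset_closure (Or.inl hv)) p.R_le_PP
    (fun y hy k hk => p.R_norm (Conf.QQ_le_norm hy) hk) p.not_R_le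
  exact huV (hA ▸ (⟨huU, huR⟩ : u ∈ p.U ⊓ p.R))

/-- `C_{C_Q(V)}(U) = V`. -/
theorem cent_U {q : G} (hq : q ∈ PP V) (hc : ∀ u ∈ p.U, Commute q u) : q ∈ V := by
  set C := centralizer (p.U : Set G) with hC
  have hVC : V ≤ C := fun v hv => mem_centralizer_iff.2 fun u hu => (Conf.PP_comm_V hu.1 hv).eq
  have hCn : ∀ m ∈ normalizer (V : Set G), ∀ a ∈ C, m * a * m⁻¹ ∈ C := by
    intro m hm a ha
    rw [hC, mem_centralizer_iff] at ha ⊢
    intro u hu
    have := ha (m⁻¹ * u * m) (by simpa using p.U_norm (inv_mem hm) hu)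
    calc u * (m * a * m⁻¹) = m * (m⁻¹ * u * m * a) * m⁻¹ := by group
      _ = m * (a * (m⁻¹ * u * m)) * m⁻¹ := by rw [this]
      _ = m * a * m⁻¹ * u := by group
  have hA : p.U ⊓ C = V :=
    p.eq_V_of_commute (le_inf p.V_le_U hVC) (fun a ha => ha.1.1)
      (fun m hm a ha => ⟨p.U_norm hm ha.1, hCn m hm a ha.2⟩)
      (fun a ha b hb => mem_centralizer_iff.1 hb.2 a ha.1)
  by_contra hqV
  obtain ⟨u, hu, huV, huU⟩ := p.fixed_above (K := PP V ⊓ C) (le_inf p.conf.le_PP hVC) inf_le_left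
    (fun y hy k hk => ⟨Conf.norm_PP (Conf.QQ_le_norm hy) hk.1, hCn y (Conf.QQ_le_norm hy) k hk.2⟩)
    (fun hle => hqV (hle ⟨hq, mem_centralizer_iff.2 fun u hu => (hc u hu).eq.symm⟩))
  exact huV (hA ▸ (⟨huU, hu.2⟩ : u ∈ p.U ⊓ C))

omit [Finite G] in
theorem cm_U_mem {a u : G} (ha : a ∈ PP V) (hu : u ∈ p.U) : cm a u ∈ V := by
  rw [← inv_inv (cm a u), cm_inv]; exact inv_mem (hu.2 a ha.1)

omit [Finite G] in
theorem conj_inv_U {a u : G} (ha : a ∈ PP V) (hu : u ∈ p.U) : a⁻¹ * u * a = cm a u * u := by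
  have hv := p.cm_U_mem ha hu
  calc a⁻¹ * u * a = cm a u * cm a u * (a⁻¹ * u * a) := by rw [p.conf.mul_self hv, one_mul]
    _ = cm a u * (a⁻¹ * (cm a u * u) * a) := by
      rw [← mul_assoc a⁻¹, (Conf.PP_comm_V (inv_mem ha) hv).eq]; group
    _ = cm a u * (a⁻¹ * (a * u * a⁻¹) * a) := by rw [← cm_spec]
    _ = cm a u * u := by group

theorem PP_cm {a b : G} (ha : a ∈ PP V) (hb : b ∈ PP V) : cm a b ∈ V := by
  refine p.cent_U (mul_mem (mul_mem (mul_mem ha hb) (inv_mem ha)) (inv_mem hb)) fun u hu => ?_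
  have hva := p.cm_U_mem ha hu
  have hvb := p.cm_U_mem hb hu
  have e1 := p.conj_inv_U hb hu
  have e2 := p.conj_inv_U ha hu
  show a * b * a⁻¹ * b⁻¹ * u = u * (a * b * a⁻¹ * b⁻¹)
  calc a * b * a⁻¹ * b⁻¹ * u = a * b * a⁻¹ * (b⁻¹ * u * b) * b⁻¹ := by group
    _ = a * b * a⁻¹ * (cm b u * u) * b⁻¹ := by rw [e1]
    _ = a * b * cm b u * (a⁻¹ * u * a) * a⁻¹ * b⁻¹ := by
      rw [mul_assoc _ a⁻¹ (cm b u * u), ← mul_assoc a⁻¹,
        (Conf.PP_comm_V (inv_mem ha) hvb).eq]; group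
    _ = a * b * cm b u * (cm a u * u) * a⁻¹ * b⁻¹ := by rw [e2]
    _ = a * (cm b u * cm a u) * (b * u * b⁻¹) * (b * a⁻¹ * b⁻¹) := by
      rw [show a * b * cm b u * (cm a u * u) = a * (b * (cm b u * cm a u)) * u by group,
        (Conf.PP_comm_V hb (mul_mem hvb hva)).eq]; group
    _ = a * (cm b u * cm a u) * (cm b u * u) * (b * a⁻¹ * b⁻¹) := by rw [cm_spec b u]
    _ = a * (cm a u * u) * (b * a⁻¹ * b⁻¹) := by
      rw [show a * (cm b u * cm a u) * (cm b u * u) = a * (cm b u * (cm a u * cm b u)) * u by group,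
        (p.conf.comm hva hvb).eq, ← mul_assoc (cm b u), p.conf.mul_self hvb, one_mul]; group
    _ = cm a u * (a * u * a⁻¹) * (a * b * a⁻¹ * b⁻¹) := by
      rw [← mul_assoc a, (Conf.PP_comm_V ha hva).eq]; group
    _ = u * (a * b * a⁻¹ * b⁻¹) := by
      rw [cm_spec a u, ← mul_assoc (cm a u), p.conf.mul_self hva, one_mul]

theorem PP_sq {a : G} (ha : a ∈ PP V) : a * a ∈ V := by
  refine p.cent_U (mul_mem ha ha) fun u hu => ?_
  have hva := p.cm_U_mem ha hu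
  show a * a * u = u * (a * a)
  calc a * a * u = a * (a * u * a⁻¹) * a := by group
    _ = a * (cm a u * u) * a := by rw [cm_spec]
    _ = cm a u * (a * u * a⁻¹) * (a * a) := by
      rw [← mul_assoc a, (Conf.PP_comm_V ha hva).eq]; group
    _ = u * (a * a) := by rw [cm_spec, ← mul_assoc (cm a u), p.conf.mul_self hva, one_mul]

theorem center_PP {q : G} (hq : q ∈ PP V) (hc : ∀ r ∈ PP V, Commute q r) : q ∈ V :=
  p.cent_U hq fun u hu => hc u hu.1

theorem cm_mul_left {a b c : G} (ha : a ∈ PP V) (hb : b ∈ PP V) (hc : c ∈ PP V) :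
    cm (a * b) c = cm a c * cm b c := by
  have hv := p.PP_cm hb hc
  have e : cm (a * b) c = a * cm b c * a⁻¹ * cm a c := by simp [cm, mul_assoc]
  rw [e, (Conf.PP_comm_V ha hv).eq, mul_inv_cancel_right]
  exact (p.conf.comm hv (p.PP_cm ha hc)).eq

theorem cm_mul_right {a b c : G} (ha : a ∈ PP V) (hb : b ∈ PP V) (hc : c ∈ PP V) :
    cm a (b * c) = cm a b * cm a c := by
  have hv := p.PP_cm ha hc
  have e : cm a (b * c) = cm a b * (b * cm a c * b⁻¹) := by simp [cm, mul_assoc]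
  rw [e, (Conf.PP_comm_V hb hv).eq, mul_inv_cancel_right]

/-- An element of `C_Q(V)` centralising one nontrivial element of `V'` centralises `V'`. -/
theorem inj {a x x' : G} (ha : a ∈ PP V) (hx : x ∈ V') (hx1 : x ≠ 1) (hc : Commute a x)
    (hx' : x' ∈ V') : Commute a x' := by
  rw [← cm_eq_one]
  exact p.disj (p.conf'.cm_mem (p.conf'.cent_norm hx hx1 hc) hx') (p.PP_cm ha (p.le_PP hx'))

/-- A second conjugate, not commuting with `V'`. -/
theorem exists_partner : ∃ V₁, Pair V V₁ ∧ Apart V' V₁ := by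
  by_contra hall
  have hall' : ∀ m ∈ normalizer (V : Set G), ∀ x ∈ V', ∀ y ∈ cj m V', Commute x y := by
    intro m hm x hx y hy
    by_contra hxy
    exact hall ⟨cj m V', p.of_norm hm, x, hx, y, hy, hxy⟩
  have hS : ∀ y ∈ p.S, ∀ z ∈ p.S, Commute y z := by
    rintro _ ⟨m, hm, x, hx, rfl⟩ _ ⟨k, hk, x', hx', rfl⟩
    have := (hall' (m⁻¹ * k) (mul_mem (inv_mem hm) hk) x hx _ (cj_mem hx')).eq
    show m * x * m⁻¹ * (k * x' * k⁻¹) = k * x' * k⁻¹ * (m * x * m⁻¹)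
    calc m * x * m⁻¹ * (k * x' * k⁻¹) = m * (x * (m⁻¹ * k * x' * (m⁻¹ * k)⁻¹)) * m⁻¹ := by group
      _ = m * (m⁻¹ * k * x' * (m⁻¹ * k)⁻¹ * x) * m⁻¹ := by rw [this]
      _ = k * x' * k⁻¹ * (m * x * m⁻¹) := by group
  have hRc : ∀ a ∈ p.R, ∀ b ∈ p.R, Commute a b := by
    have h1 : ∀ y ∈ (V : Set G) ∪ p.S, ∀ z ∈ (V : Set G) ∪ p.S, Commute y z := by
      have hSP : ∀ y ∈ p.S, y ∈ PP V := by
        rintro _ ⟨m, hm, x, hx, rfl⟩; exact Conf.norm_PP hm (p.le_PP hx)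
      rintro y (hy | hy) z (hz | hz)
      · exact p.conf.comm hy hz
      · exact (Conf.PP_comm_V (hSP z hz) hy).symm
      · exact Conf.PP_comm_V (hSP y hy) hz
      · exact hS y hy z hz
    haveI : IsMulCommutative ↥p.R := isMulCommutative_closure (fun y hy z hz => h1 y hy z hz)
    intro a ha b hb
    exact congrArg Subtype.val (mul_comm' (⟨a, ha⟩ : p.R) ⟨b, hb⟩)
  exact p.not_R_le (p.eq_V_of_commute (fun v hv => subset_closure (Or.inl hv)) p.R_le_PP
    (fun m hm a ha => p.R_norm hm ha) hRc).le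

variable (p₁ : Pair V V₁) (hap : Apart V' V₁)
include p₁ hap

theorem not_commute {x y : G} (hx : x ∈ V') (hx1 : x ≠ 1) (hy : y ∈ V₁) (hy1 : y ≠ 1) :
    ¬ Commute y x := by
  intro hc
  obtain ⟨x', hx', y', hy', hne⟩ := hap
  have h1 : Commute y x' := p.inj (p₁.le_PP hy) hx hx1 hc hx'
  exact hne (p₁.inj (p.le_PP hx') hy hy1 h1.symm hy')

theorem surj {x v : G} (hx : x ∈ V') (hx1 : x ≠ 1) (hv : v ∈ V) : ∃ y ∈ V₁, cm y x = v := by
  let f : V₁ → V := fun y => ⟨cm y x, p.PP_cm (p₁.le_PP y.2) (p.le_PP hx)⟩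
  have hinj : Function.Injective f := by
    intro y z e
    have e' : (y : G) * x * (y : G)⁻¹ = (z : G) * x * (z : G)⁻¹ :=
      mul_right_cancel (congrArg Subtype.val e : cm (y : G) x = cm (z : G) x)
    by_contra hne'
    refine p.not_commute p₁ hap hx hx1 (mul_mem (inv_mem z.2) y.2) ?_ ?_
    · intro e1
      exact hne' (Subtype.ext (inv_mul_eq_one.1 e1).symm)
    · show (z : G)⁻¹ * y * x = x * ((z : G)⁻¹ * y)
      calc (z : G)⁻¹ * y * x = (z : G)⁻¹ * ((y : G) * x * (y : G)⁻¹) * y := by group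
        _ = (z : G)⁻¹ * ((z : G) * x * (z : G)⁻¹) * y := by rw [e']
        _ = x * ((z : G)⁻¹ * y) := by group
  obtain ⟨y, hy⟩ := ((Nat.bijective_iff_injective_and_card f).2 ⟨hinj, p₁.card_eq⟩).2 ⟨v, hv⟩
  exact ⟨y, y.2, congrArg Subtype.val hy⟩

theorem decomp {a : G} (ha : a ∈ PP V) : ∃ y ∈ V₁, ∀ x ∈ V', Commute (y * a) x := by
  obtain ⟨x0, hx0, hx01⟩ := p.exists_ne_one
  obtain ⟨y, hy, e⟩ := p.surj p₁ hap hx0 hx01 (p.PP_cm ha (p.le_PP hx0))
  refine ⟨y, hy, fun x hx => p.inj (mul_mem (p₁.le_PP hy) ha) hx0 hx01 ?_ hx⟩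
  rw [← cm_eq_one, p.cm_mul_left (p₁.le_PP hy) ha (p.le_PP hx0), e]
  exact p.conf.mul_self (p.PP_cm ha (p.le_PP hx0))

/-- `C(I) ∩ C_Q(V) = V V'` for `I = C_Q(V) ∩ C(V')`. -/
theorem cent_I {a : G} (ha : a ∈ PP V)
    (hc : ∀ i ∈ PP V, (∀ x ∈ V', Commute i x) → Commute a i) : ∃ v ∈ V, ∃ x ∈ V', a = v * x := by
  have haV' : ∀ x ∈ V', Commute a x := fun x hx =>
    hc x (p.le_PP hx) fun x' hx' => p.conf'.comm hx hx'
  obtain ⟨x, hx, hxa⟩ := p₁.decomp p hap.symm ha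
  have hk : x * a ∈ PP V := mul_mem (p.le_PP hx) ha
  have hkc : ∀ r ∈ PP V, Commute (x * a) r := by
    intro r hr
    obtain ⟨y, hy, hyr⟩ := p.decomp p₁ hap hr
    have h1 : Commute (x * a) (y * r) :=
      ((hyr x hx).symm).mul_left (hc (y * r) (mul_mem (p₁.le_PP hy) hr) hyr)
    have h2 : Commute (x * a) y := hxa y hy
    have : r = y⁻¹ * (y * r) := by group
    rw [this]
    exact h2.inv_right.mul_right h1
  refine ⟨x * a, p.center_PP hk hkc, x, hx, ?_⟩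
  calc a = x * x * a := by rw [p.conf'.mul_self hx, one_mul]
    _ = x * (a * x) := by rw [mul_assoc, (haV' x hx).eq]
    _ = x * a * x := (mul_assoc _ _ _).symm

omit p₁ hap

/-- `W = V V'`. -/
def W : Subgroup G where
  carrier := {w | ∃ v ∈ V, ∃ x ∈ V', w = v * x}
  one_mem' := ⟨1, one_mem _, 1, one_mem _, (mul_one 1).symm⟩
  mul_mem' := by
    rintro _ _ ⟨v, hv, x, hx, rfl⟩ ⟨v', hv', x', hx', rfl⟩
    refine ⟨v * v', mul_mem hv hv', x * x', mul_mem hx hx', ?_⟩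
    rw [mul_assoc, ← mul_assoc x, (p.comm hx hv').eq]; group
  inv_mem' := by
    rintro _ ⟨v, hv, x, hx, rfl⟩
    refine ⟨v⁻¹, inv_mem hv, x⁻¹, inv_mem hx, ?_⟩
    rw [mul_inv_rev]; exact ((p.comm hx hv).inv_inv).eq

theorem W_eq : p.W = V ⊔ V' := by
  refine le_antisymm ?_ (sup_le (fun v hv => ⟨v, hv, 1, one_mem _, (mul_one v).symm⟩)
    (fun x hx => ⟨1, one_mem _, x, hx, (one_mul x).symm⟩))
  rintro _ ⟨v, hv, x, hx, rfl⟩
  exact mul_mem (mem_sup_left hv) (mem_sup_right hx)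

theorem W_unique {v v' x x' : G} (hv : v ∈ V) (hv' : v' ∈ V) (hx : x ∈ V') (hx' : x' ∈ V')
    (e : v * x = v' * x') : v = v' ∧ x = x' := by
  have h1 : v'⁻¹ * v = x' * x⁻¹ := by
    calc v'⁻¹ * v = v'⁻¹ * (v * x) * x⁻¹ := by group
      _ = x' * x⁻¹ := by rw [e]; group
  have h2 : x' * x⁻¹ = 1 := p.disj (mul_mem hx' (inv_mem hx)) (h1 ▸ mul_mem (inv_mem hv') hv)
  rw [h2] at h1
  exact ⟨(inv_mul_eq_one.1 h1).symm, (mul_inv_eq_one.1 h2).symm⟩

theorem W_le_PP : p.W ≤ PP V := by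
  rintro _ ⟨v, hv, x, hx, rfl⟩
  exact mul_mem (p.conf.le_PP hv) (p.le_PP hx)

theorem cj_le_W {y : G} (hy : y ∈ PP V) : cj y V' ≤ p.W := by
  rintro _ ⟨x, hx, rfl⟩
  exact ⟨cm y x, p.PP_cm hy (p.le_PP hx), x, hx, cm_spec y x⟩

theorem PP_norm_W : PP V ≤ normalizer (p.W : Set G) := by
  have h1 : ∀ a ∈ PP V, ∀ w ∈ p.W, a * w * a⁻¹ ∈ p.W := by
    rintro a ha _ ⟨v, hv, x, hx, rfl⟩
    refine ⟨v * cm a x, mul_mem hv (p.PP_cm ha (p.le_PP hx)), x, hx, ?_⟩
    rw [← mul_assoc a, (Conf.PP_comm_V ha hv).eq, mul_assoc v a x, mul_assoc v, cm_spec, mul_assoc]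
  intro a ha
  refine mem_normalizer_iff.2 fun w => ⟨h1 a ha w, fun hw => ?_⟩
  simpa [mul_assoc] using h1 a⁻¹ (inv_mem ha) _ hw

theorem member {x v : G} (hx : x ∈ V') (hx1 : x ≠ 1) (hv : v ∈ V) :
    ∃ y ∈ PP V, v * x ∈ cj y V' := by
  obtain ⟨V₁, p₁, hap⟩ := p.exists_partner
  obtain ⟨y, hy, e⟩ := p.surj p₁ hap hx hx1 hv
  exact ⟨y, p₁.le_PP hy, x, hx, by rw [← e]; exact cm_spec y x⟩

/-- Each `w ∈ W#` is in exactly one conjugate of `V` inside `W`. -/
theorem exists_unique_member {w : G} (hw : w ∈ p.W) (hw1 : w ≠ 1) :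
    ∃! K : Subgroup G, (∃ x, K = cj x V) ∧ K ≤ p.W ∧ w ∈ K := by
  have hex : ∃ K : Subgroup G, (∃ x, K = cj x V) ∧ K ≤ p.W ∧ w ∈ K := by
    obtain ⟨v, hv, x, hx, rfl⟩ := hw
    by_cases hx1 : x = 1
    · subst hx1
      exact ⟨V, ⟨1, (cj_one V).symm⟩, fun z hz => ⟨z, hz, 1, one_mem _, (mul_one z).symm⟩,
        by simpa using hv⟩
    obtain ⟨y, hy, hm⟩ := p.member hx hx1 hv
    obtain ⟨a, ha⟩ := p.conj
    exact ⟨cj y V', ⟨y * a, by rw [ha, cj_cj]⟩, p.cj_le_W hy, hm⟩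
  obtain ⟨K, ⟨a, rfl⟩, hK, hwK⟩ := hex
  refine ⟨cj a V, ⟨⟨a, rfl⟩, hK, hwK⟩, ?_⟩
  rintro _ ⟨⟨b, rfl⟩, -, hwb⟩
  exact p.conf.eq_of_mem hwb hwK hw1

/-- `C_M(C_Q(V)) ≤ V`. -/
theorem cent_PP {w : G} (hw : w ∈ normalizer (V : Set G)) (hc : ∀ q ∈ PP V, Commute w q) : w ∈ V := by
  have key : ∀ z ∈ normalizer (V : Set G), (∀ q ∈ PP V, Commute z q) → z * z ∈ QQ V := by
    intro z hz hzc
    refine p.conf.char2 _ (mul_mem hz hz) fun y hy => ?_
    set c := cm z y with hcdef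
    have hzy : ∀ q ∈ PP V, y⁻¹ * q * y ∈ PP V := fun q hq => by
      simpa using Conf.norm_PP (inv_mem (Conf.QQ_le_norm hy)) hq
    have hcQ : c ∈ QQ V := mul_mem (Conf.norm_QQ hz hy) (inv_mem hy)
    have hcq : ∀ q ∈ PP V, Commute c q := by
      intro q hq
      have e1 := (hzc _ (hzy q hq)).inv_left.eq
      have e2 := (hzc q hq).eq
      show z * y * z⁻¹ * y⁻¹ * q = q * (z * y * z⁻¹ * y⁻¹)
      calc z * y * z⁻¹ * y⁻¹ * q = z * y * (z⁻¹ * (y⁻¹ * q * y)) * y⁻¹ := by group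
        _ = z * y * (y⁻¹ * q * y * z⁻¹) * y⁻¹ := by rw [e1]
        _ = z * q * (y * z⁻¹ * y⁻¹) := by group
        _ = q * (z * y * z⁻¹ * y⁻¹) := by rw [e2]; group
    have hcP : c ∈ PP V :=
      ⟨hcQ, mem_centralizer_iff.2 fun v hv => (hcq v (p.conf.le_PP hv)).eq.symm⟩
    have hcV : c ∈ V := p.center_PP hcP hcq
    have hzc' := hzc c hcP
    show z * z * y = y * (z * z)
    calc z * z * y = z * (z * y * z⁻¹) * z⁻¹ * (z * z) := by group
      _ = z * (c * y) * z⁻¹ * (z * z) := by rw [cm_spec z y]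
      _ = c * (z * y * z⁻¹) * (z * z) := by rw [← mul_assoc z, hzc'.eq]; group
      _ = y * (z * z) := by rw [cm_spec, ← hcdef, ← mul_assoc c, p.conf.mul_self hcV, one_mul]
  set K := normalizer (V : Set G) ⊓ centralizer (PP V : Set G) with hK
  have hKc : ∀ z ∈ K, ∀ q ∈ PP V, Commute z q := fun z hz q hq =>
    (mem_centralizer_iff.1 hz.2 q hq).symm
  have hK2 : IsPGroup 2 K := by
    intro z
    obtain ⟨n, hn⟩ := (CharP.isPGroup_pCoreOf 2 _ : IsPGroup 2 (QQ V))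
      ⟨_, key _ z.2.1 (hKc _ z.2)⟩
    refine ⟨n + 1, Subtype.ext ?_⟩
    have := congrArg Subtype.val hn
    simp only [SubmonoidClass.coe_pow, OneMemClass.coe_one] at this ⊢
    rw [pow_succ', pow_mul, sq]
    exact this
  have hKQ : K ≤ QQ V := by
    refine CharP.le_pCoreOf inf_le_left ?_ hK2
    intro m hm
    refine mem_normalizer_iff.2 fun z => ?_
    have h1 : ∀ m ∈ normalizer (V : Set G), ∀ z ∈ K, m * z * m⁻¹ ∈ K := by
      intro m hm z hz
      have hz1 : z ∈ normalizer (V : Set G) := hz.1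
      refine ⟨(show m * z * m⁻¹ ∈ normalizer (V : Set G) from mul_mem (mul_mem hm hz1) (inv_mem hm)), mem_centralizer_iff.2 fun q hq => ?_⟩
      have := (hKc z hz (m⁻¹ * q * m) (by simpa using Conf.norm_PP (inv_mem hm) hq)).eq
      calc q * (m * z * m⁻¹) = m * (m⁻¹ * q * m * z) * m⁻¹ := by group
        _ = m * (z * (m⁻¹ * q * m)) * m⁻¹ := by rw [this]
        _ = m * z * m⁻¹ * q := by group
    exact ⟨h1 m hm z, fun h => by simpa [mul_assoc] using h1 m⁻¹ (inv_mem hm) _ h⟩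
  have hwK : w ∈ K := ⟨hw, mem_centralizer_iff.2 fun q hq => (hc q hq).eq.symm⟩
  exact p.center_PP ⟨hKQ hwK, mem_centralizer_iff.2 fun v hv => (hc v (p.conf.le_PP hv)).eq.symm⟩ hc

/-- `C(W) ∩ C(I) ≤ W`. -/
theorem cent_W {w : G} (hwV : ∀ v ∈ V, Commute w v) (hwV' : ∀ x ∈ V', Commute w x)
    (hwI : ∀ i ∈ PP V, (∀ x ∈ V', Commute i x) → Commute w i) : w ∈ p.W := by
  obtain ⟨V₁, p₁, hap⟩ := p.exists_partner
  have hwM : w ∈ normalizer (V : Set G) := by
    refine mem_normalizer_iff.2 fun v => ⟨fun hv => ?_, fun hv => ?_⟩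
    · rwa [(hwV v hv).eq, mul_inv_cancel_right]
    · have := (hwV _ hv).eq
      have e : v = w * v * w⁻¹ := by
        calc v = w⁻¹ * (w * v * w⁻¹ * w) := by group
          _ = w⁻¹ * (w * (w * v * w⁻¹)) := by rw [this]
          _ = w * v * w⁻¹ := by group
      rwa [e]
  have step : ∀ y ∈ V₁, ∃ v ∈ V, w * y * w⁻¹ = v * y := by
    intro y hy
    have hyP := p₁.le_PP hy
    have hyy := p₁.conf'.mul_self hy
    set r := y * (w * y * w⁻¹) with hr
    have hrP : r ∈ PP V := mul_mem hyP (Conf.norm_PP hwM hyP)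
    have hrI : ∀ i ∈ PP V, (∀ x ∈ V', Commute i x) → Commute r i := by
      intro i hi hix
      have hi' : y * i * y⁻¹ ∈ PP V := mul_mem (mul_mem hyP hi) (inv_mem hyP)
      have hix' : ∀ x ∈ V', Commute (y * i * y⁻¹) x := fun x hx => by
        rw [cm_spec]
        exact (p.comm hx (p.PP_cm hyP hi)).symm.mul_left (hix x hx)
      have e1 := (hwI _ hi' hix').eq
      have e2 := (hwI i hi hix).inv_left.eq
      have hyi : y⁻¹ = y := inv_eq_of_mul_eq_one_right hyy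
      show y * (w * y * w⁻¹) * i = i * (y * (w * y * w⁻¹))
      calc y * (w * y * w⁻¹) * i = y * w * y * (w⁻¹ * i) := by group
        _ = y * w * y * (i * w⁻¹) := by rw [e2]
        _ = y * (w * (y * i * y⁻¹)) * y * w⁻¹ := by group
        _ = y * (y * i * y⁻¹ * w) * y * w⁻¹ := by rw [e1]
        _ = y * y * i * (y⁻¹ * (w * y * w⁻¹)) := by group
        _ = i * (y * (w * y * w⁻¹)) := by rw [hyy, hyi, one_mul]
    obtain ⟨v, hv, x, hx, e⟩ := p.cent_I p₁ hap hrP hrI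
    refine ⟨v, hv, ?_⟩
    by_cases hy1 : y = 1
    · subst hy1
      have : v = 1 ∧ x = 1 := p.W_unique hv (one_mem _) hx (one_mem _) (by
        rw [← e, hr]; group)
      rw [this.1]; group
    have ew : w * y * w⁻¹ = v * (y * x) := by
      calc w * y * w⁻¹ = y * y * (w * y * w⁻¹) := by rw [hyy, one_mul]
        _ = y * (v * x) := by rw [mul_assoc, ← hr, e]
        _ = v * (y * x) := by rw [← mul_assoc, (Conf.PP_comm_V hyP hv).eq, mul_assoc]
    have hsq : (y * x) * (y * x) = 1 := by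
      have h1 : w * y * w⁻¹ * (w * y * w⁻¹) = 1 := by
        rw [show w * y * w⁻¹ * (w * y * w⁻¹) = w * (y * y) * w⁻¹ by group, hyy]; group
      rw [ew, show v * (y * x) * (v * (y * x)) = v * (y * x * v) * (y * x) by group,
        (Conf.PP_comm_V (mul_mem hyP (p.le_PP hx)) hv).eq,
        show v * (v * (y * x)) * (y * x) = (v * v) * ((y * x) * (y * x)) by group,
        p.conf.mul_self hv, one_mul] at h1
      exact h1
    have hx1 : x = 1 := by
      by_contra hx1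
      refine p.not_commute p₁ hap hx hx1 hy hy1 ?_
      show y * x = x * y
      rw [eq_inv_of_mul_eq_one_left hsq, mul_inv_rev, p.conf'.inv_eq hx,
        p₁.conf'.inv_eq hy]
    rw [ew, hx1, mul_one]
  obtain ⟨y1, hy1, hy11⟩ := p₁.exists_ne_one
  obtain ⟨v1, hv1, e1⟩ := step y1 hy1
  obtain ⟨x, hx, ex⟩ := p₁.surj p hap.symm hy1 hy11 hv1
  have exc : x * y1 * x⁻¹ = v1 * y1 := by rw [cm_spec, ex]
  obtain ⟨a, ha⟩ := p₁.conj
  have heq : cj w V₁ = cj x V₁ := by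
    rw [ha, cj_cj, cj_cj]
    refine p.conf.eq_of_mem (v := v1 * y1) ?_ ?_ ?_
    · rw [← cj_cj, ← ha, ← e1]; exact cj_mem hy1
    · rw [← cj_cj, ← ha, ← exc]; exact cj_mem hy1
    · intro e
      rw [← p₁.conf.inv_eq hv1, inv_mul_eq_one] at e
      exact hy11 (p₁.disj hy1 (e ▸ hv1))
  set w' := x⁻¹ * w with hw'
  have hxinv : x⁻¹ ∈ PP V := inv_mem (p.le_PP hx)
  have hw'1 : ∀ y ∈ V₁, Commute w' y := by
    intro y hy
    obtain ⟨v, hv, e⟩ := step y hy
    have hmem : w' * y * w'⁻¹ ∈ V₁ := by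
      have : w * y * w⁻¹ ∈ cj x V₁ := heq ▸ cj_mem hy
      rw [mem_cj] at this
      simpa [hw', mul_assoc] using this
    have e' : w' * y * w'⁻¹ = v * cm x⁻¹ y * y := by
      rw [mul_assoc v, ← cm_spec]
      calc w' * y * w'⁻¹ = x⁻¹ * (w * y * w⁻¹) * x := by rw [hw']; group
        _ = x⁻¹ * v * y * x := by rw [e]; group
        _ = v * (x⁻¹ * y * x⁻¹⁻¹) := by rw [(Conf.PP_comm_V hxinv hv).eq]; group
    have h1 : v * cm x⁻¹ y = 1 := by
      refine p₁.disj ?_ (mul_mem hv (p.PP_cm hxinv (p₁.le_PP hy)))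
      have := mul_mem hmem (inv_mem hy)
      rwa [e', mul_inv_cancel_right] at this
    rw [h1, one_mul, mul_inv_eq_iff_eq_mul] at e'
    exact e'
  have hw'I : ∀ i ∈ PP V, (∀ x ∈ V', Commute i x) → Commute w' i := fun i hi hix =>
    ((hix x hx).symm.inv_left).mul_left (hwI i hi hix)
  have hw'P : ∀ q ∈ PP V, Commute w' q := by
    intro q hq
    obtain ⟨y, hy, hyq⟩ := p.decomp p₁ hap hq
    have : q = y⁻¹ * (y * q) := by group
    rw [this]
    exact (hw'1 y hy).inv_right.mul_right (hw'I _ (mul_mem (p₁.le_PP hy) hq) hyq)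
  have hw'V : w' ∈ V := p.cent_PP (mul_mem (Conf.PP_le_norm hxinv) hwM) hw'P
  refine ⟨w', hw'V, x, hx, ?_⟩
  rw [← (p.comm hx hw'V).eq, hw', mul_inv_cancel_left]

theorem left_le_norm' : V ≤ normalizer (V' : Set G) := fun v hv => by
  obtain ⟨x, hx, hx1⟩ := p.exists_ne_one
  exact p.conf'.cent_norm hx hx1 (p.comm hx hv).symm

/-- The symmetry: `V ≤ O₂(N(V'))`. -/
theorem le_QQ' : V ≤ QQ V' := by
  by_contra hnot
  haveI : Fact (Nat.Prime 2) := ⟨Nat.prime_two⟩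
  have hnotle : ¬ QQ V' ≤ normalizer (V : Set G) := by
    intro hle
    have hin : ∀ v ∈ V, ∀ y ∈ QQ V', cm v y ∈ QQ V' ∧ cm v y ∈ V := fun v hv y hy =>
      ⟨mul_mem (Conf.norm_QQ (p.left_le_norm' hv) hy) (inv_mem hy), by
        rw [← inv_inv (cm v y), cm_inv]; exact inv_mem (p.conf.cm_mem (hle hy) hv)⟩
    by_cases hall : ∀ v ∈ V, v ∈ QQ V' → v = 1
    · refine hnot fun v hv => p.conf'.char2 v (p.left_le_norm' hv) fun y hy => ?_
      rw [← cm_eq_one]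
      exact hall _ (hin v hv y hy).2 (hin v hv y hy).1
    · push Not at hall
      obtain ⟨v0, hv0, hv0Q, hv01⟩ := hall
      have hv0P : v0 ∈ PP V' :=
        ⟨hv0Q, mem_centralizer_iff.2 fun x hx => (p.comm hx hv0).eq⟩
      obtain ⟨y, hy⟩ := p.left_eq
      obtain ⟨b, hb⟩ := p.conj
      have p' : Pair V' (cj b V') := by
        refine ⟨p.conf', ⟨b, rfl⟩, fun e => p.ne ?_, ?_⟩
        · have := congrArg (cj b⁻¹) e
          rw [cj_inv_cj] at this
          rw [this, hb, cj_inv_cj]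
        · intro z hz
          rw [mem_cj] at hz
          rw [hb, QQ_cj, mem_cj]
          exact p.le hz
      refine hv01 (p.disj (p'.center_PP hv0P fun q hq => ?_) hv0)
      rw [← cm_eq_one]
      exact p.disj (p'.PP_cm hv0P hq) (hin v0 hv0 q hq.1).2
  set D := normalizer (V : Set G) ⊓ normalizer (V' : Set G) with hD
  set I := PP V ⊓ centralizer (V' : Set G) with hI
  have hI2 : IsPGroup 2 I :=
    (CharP.isPGroup_pCoreOf 2 _ : IsPGroup 2 (QQ V)).to_le (inf_le_left.trans Conf.PP_le_QQ)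
  have hID : I ≤ D := by
    intro i hi
    refine ⟨Conf.PP_le_norm hi.1, ?_⟩
    obtain ⟨x, hx, hx1⟩ := p.exists_ne_one
    exact p.conf'.cent_norm hx hx1 (mem_centralizer_iff.1 hi.2 x hx).symm
  obtain ⟨S, hS, hIS⟩ := CharP.exists_isSylIn_ge hI2 hID
  have hVI : V ≤ I := fun v hv =>
    ⟨p.conf.le_PP hv, mem_centralizer_iff.2 fun x hx => (p.comm hx hv).eq⟩
  have hV'I : V' ≤ I := fun x hx =>
    ⟨p.le_PP hx, mem_centralizer_iff.2 fun x' hx' => (p.conf'.comm hx' hx).eq⟩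
  have hSD := hS.le
  set T := QQ V' ⊔ S with hT
  have hT2 : IsPGroup 2 T :=
    (CharP.isPGroup_pCoreOf 2 _ : IsPGroup 2 (QQ V')).to_sup_of_normal_left' hS.isPGroup
      ((hSD.trans inf_le_right).trans (CharP.le_normalizer_pCoreOf 2 _))
  have hTM' : T ≤ normalizer (V' : Set G) := sup_le Conf.QQ_le_norm (hSD.trans inf_le_right)
  haveI : Group.IsNilpotent T := hT2.isNilpotent
  have hlt : S.subgroupOf T < ⊤ := by
    rw [lt_top_iff_ne_top, Ne, subgroupOf_eq_top]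
    intro hle
    exact hnotle ((le_sup_left.trans hle).trans (hSD.trans inf_le_left))
  obtain ⟨t, ht, htS⟩ := SetLike.exists_of_lt (Group.normalizerCondition_of_isNilpotent _ hlt)
  have htn : ∀ s ∈ S, (t : G) * s * (t : G)⁻¹ ∈ S ∧ (t : G)⁻¹ * s * t ∈ S := fun s hs =>
    ⟨(mem_normalizer_iff.1 ht ⟨s, le_sup_right (a := QQ V') hs⟩).1 hs,
      by
        have := (mem_normalizer_iff.1 (inv_mem ht) ⟨s, le_sup_right (a := QQ V') hs⟩).1 hs
        simpa [mem_subgroupOf] using this⟩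
  have htM : (t : G) ∉ normalizer (V : Set G) := by
    intro htM
    refine htS ?_
    have htD : (t : G) ∈ D := ⟨htM, hTM' t.2⟩
    set S' := Subgroup.zpowers (t : G) ⊔ S with hS'
    have hle : S' ≤ T := sup_le (zpowers_le.2 t.2) le_sup_right
    have := hS.eq_of_le (hT2.to_le hle) (sup_le (zpowers_le.2 htD) hSD) le_sup_right
    exact this ▸ (le_sup_left (b := S) (mem_zpowers (t : G)) : (t : G) ∈ S')
  -- a central element of `S` in `V`
  haveI : Group.IsNilpotent S := hS.isPGroup.isNilpotent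
  haveI : (V.subgroupOf S).Normal := ⟨fun v hv s => mem_subgroupOf.2 (nmem (K := V) (hSD s.2).1 (mem_subgroupOf.1 hv))⟩
  have hne : V.subgroupOf S ≠ ⊥ := by
    obtain ⟨y, hy⟩ := p.left_eq
    obtain ⟨x, hx, hx1⟩ := p.exists_ne_one
    intro e
    have hvV : y * x * y⁻¹ ∈ V := hy ▸ cj_mem hx
    have : (⟨y * x * y⁻¹, hIS (hVI hvV)⟩ : S) ∈ V.subgroupOf S := hvV
    rw [e, mem_bot] at this
    exact hx1 (conj_eq_one_iff.1 (congrArg Subtype.val this))
  obtain ⟨⟨v, hv⟩, hv1⟩ := (Subgroup.ne_bot_iff_exists_ne_one).1 (Cores.inf_center_ne_bot hne)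
  have hvc : ∀ s ∈ S, Commute (v : G) s := fun s hs =>
    (congrArg Subtype.val (Subgroup.mem_center_iff.1 hv.2 ⟨s, hs⟩)).symm
  set z := (t : G) * v * (t : G)⁻¹ with hz
  have hzc : ∀ s ∈ S, Commute z s := by
    intro s hs
    have := (hvc _ (htn s hs).2).eq
    show z * s = s * z
    calc z * s = (t : G) * ((v : G) * ((t : G)⁻¹ * s * t)) * (t : G)⁻¹ := by rw [hz]; group
      _ = (t : G) * ((t : G)⁻¹ * s * t * v) * (t : G)⁻¹ := by rw [this]
      _ = s * z := by rw [hz]; group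
  have hzW : z ∈ p.W := p.cent_W (fun u hu => hzc u (hIS (hVI hu)))
    (fun u hu => hzc u (hIS (hV'I hu)))
    (fun i hi hix => hzc i (hIS ⟨hi, mem_centralizer_iff.2 fun x hx => (hix x hx).eq.symm⟩))
  have hz1 : z ≠ 1 := fun e => hv1 (Subtype.ext (Subtype.ext (conj_eq_one_iff.1 e)))
  have hzt : z ∈ cj (t : G) V := cj_mem hv.1
  have htV : cj (t : G) V ≠ V := fun e => htM (CharP.mem_normalizer_of_conj_map e)
  obtain ⟨u, hu, x, hx, e⟩ := hzW
  have hx1 : x ≠ 1 := by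
    rintro rfl
    rw [mul_one] at e
    exact htV ((p.conf.eq_of_mem hzt (b := 1) (by rw [cj_one, e]; exact hu) hz1).trans (cj_one V))
  obtain ⟨y, hy, hzy⟩ := p.member hx hx1 hu
  obtain ⟨a, ha⟩ := p.conj
  have htU : cj (t : G) V = cj y V' := by
    rw [ha, cj_cj]
    exact p.conf.eq_of_mem hzt (by rw [← cj_cj, ← ha, e]; exact hzy) hz1
  have htW : ∀ w ∈ p.W, (t : G) * w * (t : G)⁻¹ ∈ p.W := by
    rintro _ ⟨v', hv', x', hx', rfl⟩
    rw [show (t : G) * (v' * x') * (t : G)⁻¹ = ((t : G) * v' * (t : G)⁻¹) * ((t : G) * x' * (t : G)⁻¹) by group]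
    exact mul_mem (p.cj_le_W hy (htU ▸ cj_mem hv'))
      ⟨1, one_mem _, _, nmem (hTM' t.2) hx', (one_mul _).symm⟩
  let f : p.W → p.W := fun w => ⟨(t : G) * w * (t : G)⁻¹, htW w w.2⟩
  have hfs : Function.Surjective f := Finite.injective_iff_surjective.1 fun w w' h =>
    Subtype.ext (by simpa [f] using congrArg Subtype.val h)
  refine hnot ?_
  have hback : cj (t : G)⁻¹ V ≤ QQ V := by
    intro s hs
    rw [mem_cj, inv_inv] at hs
    obtain ⟨w, hw⟩ := hfs ⟨(t : G) * s * (t : G)⁻¹, ⟨_, hs, 1, one_mem _, (mul_one _).symm⟩⟩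
    have hws : (w : G) = s := by simpa [f] using congrArg Subtype.val hw
    exact Conf.PP_le_QQ (p.W_le_PP (hws ▸ w.2))
  have h2 : V ≤ cj y (QQ V') := by
    rw [← QQ_cj, ← htU, QQ_cj]
    intro s hs
    refine mem_cj.2 (hback (mem_cj.2 ?_))
    simpa [mul_assoc] using hs
  intro s hs
  have := mem_cj.1 (h2 (nmem (Conf.PP_le_norm hy) hs))
  simpa [mul_assoc] using this

theorem symm : Pair V' V :=
  ⟨p.conf', p.left_eq, fun e => p.ne e.symm, p.le_QQ'⟩

/-- For `y` moving `V'` the element `n = r⁻¹ y` maps `V'` onto `V`. -/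
theorem rel_exists {y x0 : G} (hy : y ∈ PP V) (hx0 : x0 ∈ V') (h0 : ¬ Commute y x0) :
    ∃ r ∈ PP V', cj r V = cj y V' ∧ ∀ x ∈ V', r * cm y x * r⁻¹ = cm y x * x := by
  have hx01 : x0 ≠ 1 := fun e => h0 (e ▸ Commute.one_right y)
  have hv := p.PP_cm hy (p.le_PP hx0)
  have hv1 : cm y x0 ≠ 1 := fun e => h0 (cm_eq_one.1 e)
  obtain ⟨r, hr, hm⟩ := p.symm.member hv hv1 hx0
  obtain ⟨a, ha⟩ := p.conj
  have hU : cj r V = cj y V' := by
    rw [ha, cj_cj]
    refine p.conf.eq_of_mem hm ?_ ?_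
    · rw [← cj_cj, ← ha, (p.comm hx0 hv).eq, ← cm_spec]; exact cj_mem hx0
    · intro e
      exact hx01 (p.disj hx0 (by
        rw [eq_inv_of_mul_eq_one_left e]; exact inv_mem hv))
  refine ⟨r, hr, hU, fun x hx => ?_⟩
  have hmem : y * x * y⁻¹ ∈ cj r V := hU ▸ cj_mem hx
  obtain ⟨v, hv', e⟩ := hmem
  have e' : cm r v * v = cm y x * x := by rw [← cm_spec, ← cm_spec]; exact e
  have hcv : cm r v ∈ V' := p.symm.PP_cm hr (p.symm.le_PP hv')
  rw [(p.comm hcv hv').eq] at e'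
  obtain ⟨h1, h2⟩ := p.W_unique hv' (p.PP_cm hy (p.le_PP hx)) hcv hx e'
  rw [← h1, cm_spec, (p.comm hcv hv').eq, h2]

theorem inv_cm_self {y x : G} (hy : y ∈ PP V) (hx : x ∈ V') : y⁻¹ * x * y = cm y x * x := by
  have h1 : cm (y⁻¹ * y) x = cm y⁻¹ x * cm y x := p.cm_mul_left (inv_mem hy) hy (p.le_PP hx)
  rw [inv_mul_cancel, show cm 1 x = 1 by simp [cm]] at h1
  have h2 : cm y⁻¹ x = cm y x := by
    rw [eq_inv_of_mul_eq_one_left h1.symm, p.conf.inv_eq (p.PP_cm hy (p.le_PP hx))]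
  calc y⁻¹ * x * y = y⁻¹ * x * y⁻¹⁻¹ := by rw [inv_inv]
    _ = cm y⁻¹ x * x := cm_spec _ _
    _ = cm y x * x := by rw [h2]

/-- `C_Q(V) = Q`. -/
theorem PP_eq : PP V = QQ V := by
  refine le_antisymm inf_le_left fun q hq => ⟨hq, mem_centralizer_iff.2 fun v hv => ?_⟩
  by_cases hv1 : v = 1
  · rw [hv1, one_mul, mul_one]
  haveI : Fact (Nat.Prime 2) := ⟨Nat.prime_two⟩
  haveI : Group.IsNilpotent (QQ V') := (CharP.isPGroup_pCoreOf 2 _).isNilpotent
  haveI : (V'.subgroupOf (QQ V')).Normal := ⟨fun x hx s => mem_subgroupOf.2 (nmem (Conf.QQ_le_norm s.2) (mem_subgroupOf.1 hx))⟩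
  have hne : V'.subgroupOf (QQ V') ≠ ⊥ := by
    obtain ⟨x, hx, hx1⟩ := p.exists_ne_one
    intro e
    have : (⟨x, p.conf'.le_QQ hx⟩ : QQ V') ∈ V'.subgroupOf (QQ V') := hx
    rw [e, mem_bot] at this
    exact hx1 (congrArg Subtype.val this)
  obtain ⟨⟨⟨z, hzQ⟩, hz⟩, hz1⟩ := (Subgroup.ne_bot_iff_exists_ne_one).1 (Cores.inf_center_ne_bot hne)
  have hzV : z ∈ V' := hz.1
  have hz1' : z ≠ 1 := fun e => hz1 (Subtype.ext (Subtype.ext e))
  have hzc : ∀ s ∈ QQ V', Commute z s := fun s hs =>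
    (congrArg Subtype.val (Subgroup.mem_center_iff.1 hz.2 ⟨s, hs⟩)).symm
  obtain ⟨V₁, p₁, hap⟩ := p.exists_partner
  obtain ⟨y, hy, e⟩ := p.surj p₁ hap hzV hz1' hv
  have hyP := p₁.le_PP hy
  obtain ⟨r, hr, hU, hrel⟩ := p.rel_exists hyP hzV (fun hc => hv1 (e ▸ cm_eq_one.2 hc))
  set n := r⁻¹ * y with hn
  have hnV : cj n V' = V := by
    rw [hn, ← cj_cj, ← hU, cj_inv_cj]
  have hnz : n * z * n⁻¹ = v := by
    have h1 := hrel z hzV
    rw [e] at h1
    calc n * z * n⁻¹ = r⁻¹ * (y * z * y⁻¹) * r := by rw [hn]; group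
      _ = r⁻¹ * (cm y z * z) * r := by rw [cm_spec]
      _ = r⁻¹ * (r * v * r⁻¹) * r := by rw [e, h1]
      _ = v := by group
  have hq' : n⁻¹ * q * n ∈ QQ V' := by
    have := hq
    rw [← hnV, QQ_cj, mem_cj] at this
    exact this
  have := (hzc _ hq').eq
  rw [← hnz]
  calc n * z * n⁻¹ * q = n * (z * (n⁻¹ * q * n)) * n⁻¹ := by group
    _ = n * (n⁻¹ * q * n * z) * n⁻¹ := by rw [this]
    _ = q * (n * z * n⁻¹) := by group

/-- The triple operation on the spread: `φ_y φ_z⁻¹ φ_y` is again induced by some element. -/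
theorem triple {y z x0 x1 : G} (hy : y ∈ PP V) (hz : z ∈ PP V) (hx0 : x0 ∈ V') (hy0 : ¬ Commute y x0)
    (hx1 : x1 ∈ V') (hz0 : ¬ Commute z x1) :
    ∃ u ∈ PP V, ∀ x ∈ V', ∀ x' ∈ V', cm z x' = cm y x → cm u x = cm y x' := by
  obtain ⟨r, hr, hU, hrel⟩ := p.rel_exists hy hx0 hy0
  obtain ⟨s, hs, -, hsrel⟩ := p.rel_exists hz hx1 hz0
  set n := r⁻¹ * y with hn
  have hnV : cj n V' = V := by rw [hn, ← cj_cj, ← hU, cj_inv_cj]
  refine ⟨n * s * n⁻¹, ?_, fun x hx x' hx' e => ?_⟩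
  · rw [← hnV, PP_cj]; exact cj_mem hs
  have hv := p.PP_cm hy (p.le_PP hx)
  have hnx : ∀ x ∈ V', n * x * n⁻¹ = cm y x := by
    intro x hx
    calc n * x * n⁻¹ = r⁻¹ * (y * x * y⁻¹) * r := by rw [hn]; group
      _ = r⁻¹ * (r * cm y x * r⁻¹) * r := by rw [hrel x hx, cm_spec]
      _ = cm y x := by group
  have hrx : r * x * r⁻¹ = x := by
    rw [(Conf.PP_comm_V hr hx).eq, mul_inv_cancel_right]
  have hnix : n⁻¹ * x * n = cm y x * x := by
    calc n⁻¹ * x * n = y⁻¹ * (r * x * r⁻¹) * y := by rw [hn]; group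
      _ = cm y x * x := by rw [hrx, p.inv_cm_self hy hx]
  have hsx : s * x * s⁻¹ = x := by
    rw [(Conf.PP_comm_V hs hx).eq, mul_inv_cancel_right]
  have hsv : s * cm y x * s⁻¹ = cm y x * x' := by rw [← e]; exact hsrel x' hx'
  have h1 : n * s * n⁻¹ * x * (n * s * n⁻¹)⁻¹ = x * cm y x' := by
    calc n * s * n⁻¹ * x * (n * s * n⁻¹)⁻¹ = n * ((s * (n⁻¹ * x * n) * s⁻¹)) * n⁻¹ := by group
      _ = n * ((s * cm y x * s⁻¹) * (s * x * s⁻¹)) * n⁻¹ := by rw [hnix]; group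
      _ = n * (cm y x * x' * x) * n⁻¹ := by rw [hsv, hsx]
      _ = n * (cm y x * (x * x')) * n⁻¹ := by rw [mul_assoc (cm y x) x' x, (p.conf'.comm hx' hx).eq]
      _ = n * (n⁻¹ * x * n * x') * n⁻¹ := by rw [hnix]; group
      _ = x * (n * x' * n⁻¹) := by group
      _ = x * cm y x' := by rw [hnx x' hx']
  rw [(p.comm hx (p.PP_cm hy (p.le_PP hx'))).eq] at h1
  rw [cm_spec] at h1
  exact mul_right_cancel h1

end Pair

end Cfsg.Agent.TISpread
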